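import Groth.Agent.Lib.TFOne27.SubQuot

/-!
# Semistability of a modification
-/

set_option autoImplicit false
set_option linter.style.haveILetI false

universe u

open CategoryTheory CategoryTheory.Limits AlgebraicGeometry TopologicalSpace

namespace Groth.Agent.TFOne27

open Groth.Agent.M1 Groth.Agent.M2 Groth.Agent.CurveCoh17

variable {X : Scheme.{u}}

/-- The direct image along a closed immersion keeps epimorphisms of modules. -/
theorem epi_push_closed {Z : Scheme.{u}} (i : Z ⟶ X) [IsClosedImmersion i] {N P : Z.Modules} (φ : N ⟶ P) [Epi φ] :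
    Epi ((Scheme.Modules.pushforward i).map φ) := by
  rw [epi_iff_stalk]
  intro x b
  by_cases hx : x ∈ Set.range i
  · obtain ⟨z, rfl⟩ := hx
    obtain ⟨a, ha⟩ := surjective_stalkLin φ z (TopCat.Presheaf.stalkPushforward AddCommGrpCat.{u} i.base P.presheaf z b)
    obtain ⟨a', rfl⟩ := surjective_stalkPush i N z a
    refine ⟨a', ?_⟩
    haveI := TopCat.Presheaf.stalkPushforward.stalkPushforward_iso_of_isInducing
      (C := AddCommGrpCat.{u}) i.isClosedEmbedding.isInducing P.presheaf z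
    exact (ConcreteCategory.bijective_of_isIso
      (TopCat.Presheaf.stalkPushforward AddCommGrpCat.{u} i.base P.presheaf z)).1 ((stalkPush_natural i φ z a').trans ha)
  · exact ⟨0, (subsingleton_push i (N := P) hx).elim _ _⟩

theorem genClosed_image {Y : Set X} (hY : IsClosed Y) (hYg : GenClosed Y) {T : Set (VecSt.subsch X Y hY)}
    (hTg : GenClosed T) : GenClosed (VecSt.subschι X Y hY '' T) := by
  rintro x ⟨w, hw, rfl⟩
  obtain ⟨η, hη, hηT, hsp⟩ := hTg w hw
  exact ⟨_, map_mem_genericPoints' Y hY hYg η hη, ⟨η, hηT, rfl⟩, hsp.map (VecSt.subschι X Y hY).continuous⟩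

/-- A subcurve of a subcurve is a subcurve. -/
theorem isSubcurve_image {Y : Set X} (hY : IsClosed Y) (hYg : GenClosed Y) {T : Set (VecSt.subsch X Y hY)}
    (hT : VecSt.IsSubcurve (VecSt.subsch X Y hY) T) : VecSt.IsSubcurve X (VecSt.subschι X Y hY '' T) := by
  let i := VecSt.subschι X Y hY
  obtain ⟨S, hS, hne, rfl⟩ := hT
  refine ⟨Set.image i '' S, ?_, hne.image _, Set.image_sUnion⟩
  rintro _ ⟨C, hC, rfl⟩
  obtain ⟨η, hη, hgen⟩ := exists_generic_of_component (hS hC)
  rw [← hgen.def, ← i.isClosedEmbedding.closure_image_eq, Set.image_singleton]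
  exact map_mem_genericPoints' Y hY hYg η hη

variable {k : Type u} [Field k] [X.Over (Spec (CommRingCat.of k))]

/-- The twisted degree on a subcurve of a subcurve. -/
theorem delta_OT_image [AlgebraicGeometry.IsReduced X] [IsProper (X ↘ Spec (CommRingCat.of k))] [IsNoetherian X]
    {Y : Set X} (hY : IsClosed Y) (hYg : GenClosed Y) {T : Set (VecSt.subsch X Y hY)} (hT : IsClosed T)
    (hTg : GenClosed T) {E : X.Modules} {r : ℕ} (hE : FlatMod.IsFinLocFreeOfRank r E) :
    letI : (VecSt.subsch X Y hY).Over (Spec (CommRingCat.of k)) :=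
      ⟨VecSt.subschι X Y hY ≫ (X ↘ Spec (CommRingCat.of k))⟩
    delta k E r (OT (VecSt.subschι X Y hY '' T) ((VecSt.subschι X Y hY).isClosedEmbedding.isClosedMap T hT)) =
      delta k ((Scheme.Modules.pullback (VecSt.subschι X Y hY)).obj E) r (OT T hT) := by
  let i := VecSt.subschι X Y hY
  letI : (VecSt.subsch X Y hY).Over (Spec (CommRingCat.of k)) := ⟨i ≫ (X ↘ Spec (CommRingCat.of k))⟩
  haveI : CompactSpace (VecSt.subsch X Y hY) := i.isClosedEmbedding.compactSpace
  haveI : IsNoetherian (VecSt.subsch X Y hY) := {}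
  haveI := FGA3.epi_unitToPush i
  haveI := FGA3.epi_unitToPush (VecSt.subschι (VecSt.subsch X Y hY) T hT)
  let T' := i '' T
  have hT' : IsClosed T' := i.isClosedEmbedding.isClosedMap T hT
  haveI := FGA3.epi_unitToPush (VecSt.subschι X T' hT')
  haveI := epi_push_closed i (ClSub.unitToPush (VecSt.subschι (VecSt.subsch X Y hY) T hT))
  have ht1 : TorSh.IsTorsionFree (OT T hT) :=
    isTorsionFree_push T hT hTg isTF1_structureModule.1 isTF1_structureModule.2.1
  have hc2 : Coh.IsCoh ((Scheme.Modules.pushforward i).obj (OT T hT)) :=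
    ProperFormalH7.isCoh_pushforward_of_isProper i (isCoh_OT T hT)
  obtain ⟨e, -⟩ := nonempty_iso_of_quot isTF1_structureModule.2.2 (ClSub.unitToPush (VecSt.subschι X T' hT'))
    (ClSub.unitToPush i ≫ (Scheme.Modules.pushforward i).map
      (ClSub.unitToPush (VecSt.subschι (VecSt.subsch X Y hY) T hT)))
    (isCoh_OT T' hT') (isTorsionFree_push T' hT' (genClosed_image hY hYg hTg) isTF1_structureModule.1
      isTF1_structureModule.2.1) hc2 (isTorsionFree_push Y hY hYg (isCoh_OT T hT) ht1)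
    fun η _ => by rw [support_OT T' hT', support_push Y hY (OT T hT), support_OT T hT]
  rw [← delta_push Y hY hE (OT T hT) (isCoh_OT T hT), delta, delta, euler_iso e,
    euler_iso (M2.tensorComm _ E ≪≫ ⟨M2.tensorMap (𝟙 E) e.hom, M2.tensorMap (𝟙 E) e.inv,
      by rw [← M2.tensorMap_comp, Category.comp_id, e.hom_inv_id, M2.tensorMap_id],
      by rw [← M2.tensorMap_comp, Category.comp_id, e.inv_hom_id, M2.tensorMap_id]⟩ ≪≫ M2.tensorComm E _)]

/-- A semistable sheaf whose `β` vanishes on a subcurve has semistable quotient there. -/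
theorem isSemistable_sub [AlgebraicGeometry.IsReduced X] [IsProper (X ↘ Spec (CommRingCat.of k))]
    [IsNoetherian X] {M G : X.Modules} {E : X.Modules} {r : ℕ} (hE : FlatMod.IsFinLocFreeOfRank r E)
    (hss : TFOne.IsSemistable X k (X ↘ Spec (CommRingCat.of k)) M E r) {Y : Set X} (hY : IsClosed Y)
    (hYg : GenClosed Y) {p : M ⟶ G} (hG : TFOne.IsQuotOn X M Y G p) :
    TFOne.IsSemistable (VecSt.subsch X Y hY) k (VecSt.subschι X Y hY ≫ (X ↘ Spec (CommRingCat.of k)))
      ((Scheme.Modules.pullback (VecSt.subschι X Y hY)).obj G)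
      ((Scheme.Modules.pullback (VecSt.subschι X Y hY)).obj E) r := by
  let i := VecSt.subschι X Y hY
  letI : (VecSt.subsch X Y hY).Over (Spec (CommRingCat.of k)) := ⟨i ≫ (X ↘ Spec (CommRingCat.of k))⟩
  haveI : IsProper ((VecSt.subsch X Y hY) ↘ Spec (CommRingCat.of k)) :=
    inferInstanceAs (IsProper (i ≫ (X ↘ Spec (CommRingCat.of k))))
  refine ⟨isTF1_pullback hss.1 p hY hYg hG, fun T hT hTs hTu H π hH => ?_⟩
  obtain ⟨heG, hcG, htG, hsG⟩ := hG
  haveI := heG
  obtain ⟨heH, hcH, htH, hsH⟩ := hH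
  haveI := heH
  haveI := isIso_unit_of_support hcG htG Y hY hsG
  haveI := epi_push_closed i π
  have hT' : IsClosed (i '' T) := i.isClosedEmbedding.isClosedMap T hT
  have hq : TFOne.IsQuotOn X M (i '' T) ((Scheme.Modules.pushforward i).obj H)
      (p ≫ (Scheme.Modules.pullbackPushforwardAdjunction i).unit.app G ≫ (Scheme.Modules.pushforward i).map π) :=
    ⟨inferInstance, ProperFormalH7.isCoh_pushforward_of_isProper i hcH, isTorsionFree_push Y hY hYg hcH htH,
      by rw [support_push, hsH]⟩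
  have hne : i '' T ≠ Set.univ := fun h => hTu <| Set.eq_univ_of_forall fun w => by
    obtain ⟨w', hw', he⟩ : i w ∈ i '' T := h ▸ trivial
    exact i.isClosedEmbedding.injective he ▸ hw'
  have h := hss.2 (i '' T) hT' (isSubcurve_image hY hYg hTs) hne _ _ hq
  rw [rBeta_eq hE, beta, euler_push Y hY H hcH.1, delta_OT_image hY hYg hT (genClosed_of_subcurve hTs) hE] at h
  exact (rBeta_eq (k := k) (M2.isFinLocFreeOfRank_pullback i hE) T hT H).symm ▸ h

/-- When is the modification semistable. -/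
theorem Modification.isSemistable_iff [AlgebraicGeometry.IsReduced X] [IsProper (X ↘ Spec (CommRingCat.of k))]
    (hX : CurveLike k X) {M GY : X.Modules} {pY : M ⟶ GY} {Y : Set X} (hY : IsClosed Y)
    (hYs : VecSt.IsSubcurve X Y) (hGY : TFOne.IsQuotOn X M Y GY pY) {M' : X.Modules} (m : Modification pY M')
    (hM' : Coh.IsCoh M') {E : X.Modules} {r : ℕ} (hr : 0 < r) (hE : FlatMod.IsFinLocFreeOfRank r E) {d : ℤ}
    (hχ : Curv2.euler k X M = d) (hEd : Curv2.deg k X E r = -(r : ℤ) * d)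
    (hss : TFOne.IsSemistable X k (X ↘ Spec (CommRingCat.of k)) M E r) :
    TFOne.IsSemistable X k (X ↘ Spec (CommRingCat.of k)) M' E r ↔
      (TFOne.rBeta X k (X ↘ Spec (CommRingCat.of k)) Y hY E r GY = 0 ∧
        TFOne.IsSemistable (VecSt.subsch X Y hY) k (VecSt.subschι X Y hY ≫ (X ↘ Spec (CommRingCat.of k)))
          ((Scheme.Modules.pullback (VecSt.subschι X Y hY)).obj GY)
          ((Scheme.Modules.pullback (VecSt.subschι X Y hY)).obj E) r) := by
  haveI := hX.noetherian
  have hM := hss.1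
  have hYg := genClosed_of_subcurve hYs
  haveI := hGY.1
  have hnn : ∀ (T : Set X) (hT : IsClosed T) (hTs : T = ∅ ∨ VecSt.IsSubcurve X T) (G : X.Modules) (π : M ⟶ G),
      TFOne.IsQuotOn X M T G π → 0 ≤ beta k E r T hT G := by
    intro T hT hTs G π hG
    rcases hTs with h | h
    · exact (beta_empty hX hE hT h hG.2.1 hG.2.2.2).ge
    · by_cases hu : T = Set.univ
      · subst hu; exact (beta_univ hX hM π hG hχ hEd).ge
      · exact (rBeta_eq (k := k) hE T hT G) ▸ hss.2 T hT h hu G π hG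
  constructor
  · intro hs
    refine ⟨?_, isSemistable_sub hE hss hY hYg hGY⟩
    rw [rBeta_eq hE]
    by_cases hu : Y = Set.univ
    · subst hu; exact beta_univ hX hM pY hGY hχ hEd
    let S : Set (Set X) := {C | C ∈ irreducibleComponents (X : Type u) ∧ ¬ C ⊆ Y}
    have hS : S ⊆ irreducibleComponents (X : Type u) := fun C hC => hC.1
    have hY' : IsClosed (⋃₀ S) := isClosed_sUnion S hS
    have hcompl : ∀ η ∈ genericPoints (X : Type u), (η ∈ ⋃₀ S ↔ η ∉ Y) := fun η hη => mem_compl_iff hY rfl hη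
    obtain ⟨x, hx⟩ := (Set.ne_univ_iff_exists_notMem Y).mp hu
    have hY's : VecSt.IsSubcurve X (⋃₀ S) := ⟨S, hS, ⟨irreducibleComponent x,
      irreducibleComponent_mem_irreducibleComponents x, fun h => hx (h mem_irreducibleComponent)⟩, rfl⟩
    have hne : ⋃₀ S ≠ Set.univ := fun h => by
      obtain ⟨η, hη, hηY⟩ := exists_generic_mem hYs
      exact (hcompl η hη).mp (h ▸ trivial) hηY
    obtain ⟨G2, π2, hG2⟩ := exists_isQuotOn hs.1 _ hY' (genClosed_sUnion S hS)
    obtain ⟨G0, p0, hG0⟩ := exists_isQuotOn hM ∅ isClosed_empty (fun x h => h.elim)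
    obtain ⟨GU, pU, hGU⟩ := exists_isQuotOn hM (Y ∪ ⋃₀ S) (hY.union hY')
      (genClosed_of_subcurve (isSubcurve_union hYs hY's))
    have hU : Y ∪ ⋃₀ S = Set.univ := Set.eq_univ_of_forall fun z => by
      by_cases hz : z ∈ Y
      · exact Or.inl hz
      · exact Or.inr ⟨_, ⟨irreducibleComponent_mem_irreducibleComponents z, fun h => hz (h mem_irreducibleComponent)⟩,
          mem_irreducibleComponent⟩
    have hW0 : (∅ : Set X) = ⋃₀ {C | C ∈ irreducibleComponents (X : Type u) ∧ C ⊆ Y ∩ ⋃₀ S} := by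
      refine (Set.eq_empty_iff_forall_notMem.mpr ?_).symm
      rintro z ⟨C, ⟨hC, hsub⟩, -⟩
      obtain ⟨η, hη, hgen⟩ := exists_generic_of_component hC
      exact (hcompl η hη).mp (hsub hgen.mem).2 (hsub hgen.mem).1
    obtain ⟨hle, heq⟩ := m.beta_le hX hM hY hYg hGY hr hE hY' (genClosed_sUnion S hS) isClosed_empty hW0 hG2 hG0 hGU
    haveI := hG0.1; haveI := hG2.1; haveI := hGU.1
    have he := m.euler_compl hX hM hGY (π2 := π2) hG2.2.1 hG2.2.2.1 p0 hG0.2.1 hG0.2.2.1
      (fun η hη => by rw [hG2.2.2.2]; exact (Classical.em (η ∈ Y)).imp id (hcompl η hη).mpr)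
      (fun η hη => by
        rw [hG2.2.2.2, hG0.2.2.2]
        exact ⟨fun h => h.elim, fun h => (hcompl η hη).mp h.2 h.1⟩)
    obtain ⟨e, -⟩ := nonempty_iso_of_quot hM.2.2 pU (𝟙 M) hGU.2.1 hGU.2.2.1 hM.1 hM.2.1 fun η hη => by
      simp [hGU.2.2.2, hU, mem_support_of_rkOne hM.2.2 hη]
    have h0 := heq.mpr (by rw [euler_iso e]; exact he)
    have hb0 := beta_empty hX hE isClosed_empty rfl hG0.2.1 hG0.2.2.2 (k := k)
    have hbU : beta k E r (Y ∪ ⋃₀ S) (hY.union hY') GU = 0 := by
      revert GU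
      simp only [hU]
      intro GU pU hGU
      intros
      exact beta_univ hX hM pU hGU hχ hEd
    have h2 : 0 ≤ beta k E r (⋃₀ S) hY' G2 := rBeta_eq (k := k) hE _ hY' G2 ▸ hs.2 _ hY' hY's hne G2 π2 hG2
    have h1 := hnn Y hY (Or.inr hYs) GY pY hGY
    linarith
  · rintro ⟨h0, -⟩
    rw [rBeta_eq hE] at h0
    refine ⟨⟨hM', m.torsionFree hM.2.1 hGY.2.2.1, m.rkOne hM.2.2⟩, fun Z hZ hZs hZu G π hG => ?_⟩
    let S : Set (Set X) := {C | C ∈ irreducibleComponents (X : Type u) ∧ C ⊆ Y ∩ Z}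
    have hS : S ⊆ irreducibleComponents (X : Type u) := fun C hC => hC.1
    have hW : IsClosed (⋃₀ S) := isClosed_sUnion S hS
    obtain ⟨GW, pW, hGW⟩ := exists_isQuotOn hM _ hW (genClosed_sUnion S hS)
    obtain ⟨GU, pU, hGU⟩ := exists_isQuotOn hM (Y ∪ Z) (hY.union hZ) (genClosed_of_subcurve (isSubcurve_union hYs hZs))
    have hle := (m.beta_le hX hM hY hYg hGY hr hE hZ (genClosed_of_subcurve hZs) hW rfl hG hGW hGU).1
    have h1 : 0 ≤ beta k E r (⋃₀ S) hW GW := hnn _ hW (by
      rcases S.eq_empty_or_nonempty with h | h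
      · exact Or.inl (by rw [h, Set.sUnion_empty])
      · exact Or.inr ⟨S, hS, h, rfl⟩) GW pW hGW
    have h2 := hnn _ (hY.union hZ) (Or.inr (isSubcurve_union hYs hZs)) GU pU hGU
    rw [rBeta_eq hE]
    linarith

end Groth.Agent.TFOne27
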