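import Groth.Prelude.Def_TFOne
import Groth.Agent.Lib.CurveCoh17.GenericZero
import Groth.Agent.Lib.CurveCoh17.TensorExact
import Groth.Agent.Lib.FormalH7.ModPow
import Groth.Agent.Lib.VB17.Simple
import Groth.Agent.Lib.ClImmProj14.Adj
import Groth.Agent.Lib.FlatQF5.Basic
import Groth.Agent.Lib.ModM1.ClosedImm

/-!
# Torsion-free rank one sheaves: morphisms are determined at the generic points
-/

set_option autoImplicit false
set_option linter.style.haveILetI false

universe u

open CategoryTheory CategoryTheory.Limits AlgebraicGeometry TopologicalSpace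

namespace Groth.Agent.TFOne27

open Groth.Agent.M1 Groth.Agent.CurveCoh17

variable {X : Scheme.{u}}

theorem mem_genericPoints {z : X} : z ∈ genericPoints (X : Type u) ↔ FlatH4.IsMaxPt z :=
  FlatQF5.mem_genericPoints_iff z

/-- A morphism into a torsion-free sheaf vanishes if it does so at the generic points. -/
theorem hom_eq_zero [AlgebraicGeometry.IsReduced X] [IsLocallyNoetherian X] {F G : X.Modules} (hG : Coh.IsCoh G)
    (htG : TorSh.IsTorsionFree G) (f : F ⟶ G)
    (h : ∀ η ∈ genericPoints (X : Type u), ∀ a, stalkLin f η a = 0) : f = 0 := by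
  haveI : Coh.IsQCoh G := hG.1
  refine Scheme.Modules.hom_ext _ _ fun U => ?_
  ext s
  refine GenericZero.eq_zero_of_maxPt htG (f.app U s) fun z hz hmax => ?_
  rw [← germ_naturality]
  exact h z (mem_genericPoints.mpr hmax) _

theorem subsingleton_of_not_mem_support {F : X.Modules} {x : X} (h : x ∉ CohB1.support F) :
    Subsingleton (F.presheaf.stalk x) := not_not.mp h

theorem stalkLin_comp {F G H : X.Modules} (f : F ⟶ G) (g : G ⟶ H) (x : X) (a : F.presheaf.stalk x) :
    stalkLin (f ≫ g) x a = stalkLin g x (stalkLin f x a) := stalk_comp_apply f g x a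

theorem stalkLin_sub {F G : X.Modules} (f g : F ⟶ G) (x : X) (a : F.presheaf.stalk x) :
    stalkLin (f - g) x a = stalkLin f x a - stalkLin g x a := stalk_sub_apply f g x a

theorem stalkLin_zero {F G : X.Modules} (x : X) (a : F.presheaf.stalk x) :
    stalkLin (0 : F ⟶ G) x a = 0 := stalkAb_map_zero x a

theorem surjective_stalkLin {F G : X.Modules} (f : F ⟶ G) [Epi f] (x : X) :
    Function.Surjective (stalkLin f x) :=
  (AddCommGrpCat.epi_iff_surjective ((stalkAb x).map f)).mp inferInstance

theorem injective_stalkLin {F G : X.Modules} (f : F ⟶ G) [Mono f] (x : X) :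
    Function.Injective (stalkLin f x) :=
  (AddCommGrpCat.mono_iff_injective ((stalkAb x).map f)).mp inferInstance

/-- A surjection from a rank one free module over a field onto a nonzero module is injective. -/
theorem injective_of_rankOne {R M N : Type*} [CommRing R] [AddCommGroup M] [Module R M] [AddCommGroup N]
    [Module R N] (hR : IsField R) (e : M ≃ₗ[R] R) (f : M →ₗ[R] N) (hf : Function.Surjective f) [Nontrivial N] :
    Function.Injective f := by
  refine (injective_iff_map_eq_zero f).mpr fun a ha => ?_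
  by_contra h0
  obtain ⟨b, hb⟩ := hR.mul_inv_cancel (fun h => h0 (e.map_eq_zero_iff.mp h))
  obtain ⟨n, hn⟩ := exists_ne (0 : N)
  obtain ⟨m, rfl⟩ := hf n
  refine hn ?_
  have hm : m = (e m * b) • a := e.injective (by rw [map_smul, smul_eq_mul, mul_assoc, mul_comm b, hb, mul_one])
  rw [hm, map_smul, ha, smul_zero]

theorem isField_stalk [AlgebraicGeometry.IsReduced X] {η : X} (hη : η ∈ genericPoints (X : Type u)) :
    IsField (X.presheaf.stalk η) :=
  GenericZero.isField_stalk_of_maxPt (mem_genericPoints.mp hη)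

/-- An epimorphism from a rank one sheaf is injective at the generic points in the support. -/
theorem injective_at_generic [AlgebraicGeometry.IsReduced X] {M G : X.Modules} (hM : TFOne.IsRkOne X M)
    (p : M ⟶ G) [Epi p] {η : X} (hη : η ∈ genericPoints (X : Type u)) (hs : η ∈ CohB1.support G) :
    Function.Injective (stalkLin p η) := by
  haveI : Nontrivial (G.presheaf.stalk η) := not_subsingleton_iff_nontrivial.mp hs
  obtain ⟨e⟩ := hM η hη
  exact injective_of_rankOne (isField_stalk hη) e _ (surjective_stalkLin p η)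

theorem exists_ne_of_mem_support {G : X.Modules} {x : X} (h : x ∈ CohB1.support G) :
    ∃ a : G.presheaf.stalk x, a ≠ 0 := by
  haveI : Nontrivial (G.presheaf.stalk x) := not_subsingleton_iff_nontrivial.mp h
  exact exists_ne 0

theorem mem_support_of_rkOne {M : X.Modules} (hM : TFOne.IsRkOne X M) {η : X}
    (hη : η ∈ genericPoints (X : Type u)) : η ∈ CohB1.support M := by
  obtain ⟨e⟩ := hM η hη
  exact not_subsingleton_iff_nontrivial.mpr e.toEquiv.nontrivial

theorem not_isZero_of_mem_support {G : X.Modules} {x : X} (h : x ∈ CohB1.support G) : ¬ IsZero G := fun hz => by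
  obtain ⟨a, ha⟩ := exists_ne_of_mem_support h
  have := congrArg (fun f => stalkLin f x a) (hz.eq_of_src (𝟙 G) 0)
  simp only [stalkLin_zero] at this
  refine ha (Eq.trans ?_ this)
  show a = (stalkAb x).map (𝟙 G) a
  rw [CategoryTheory.Functor.map_id, CategoryTheory.id_apply]

/-- The generic point of a component lies in a closed set containing the component. -/
theorem exists_generic_of_component {C : Set X} (hC : C ∈ irreducibleComponents (X : Type u)) :
    ∃ η ∈ genericPoints (X : Type u), IsGenericPoint η C :=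
  ⟨_, (genericPoints.ofComponent ⟨C, hC⟩).2, genericPoints.isGenericPoint_ofComponent ⟨C, hC⟩⟩

/-- A generic point in a subcurve is the generic point of one of its components. -/
theorem isGenericPoint_of_mem {η : X} (hη : η ∈ genericPoints (X : Type u)) {C : Set X}
    (hC : C ∈ irreducibleComponents (X : Type u)) (h : η ∈ C) : IsGenericPoint η C := by
  obtain ⟨θ, hθ, hgen⟩ := exists_generic_of_component hC
  rwa [← mem_genericPoints.mp hη θ (hgen.specializes h)]

/-- A point of a subcurve is a specialisation of a generic point in the subcurve. -/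
theorem exists_generic_specializes {Y : Set X} (hY : VecSt.IsSubcurve X Y) {y : X} (hy : y ∈ Y) :
    ∃ η ∈ genericPoints (X : Type u), η ∈ Y ∧ η ⤳ y := by
  obtain ⟨𝒮, h𝒮, -, rfl⟩ := hY
  obtain ⟨C, hC, hyC⟩ := hy
  obtain ⟨η, hη, hgen⟩ := exists_generic_of_component (h𝒮 hC)
  exact ⟨η, hη, ⟨C, hC, hgen.mem⟩, hgen.specializes hyC⟩

theorem exists_generic_mem {Y : Set X} (hY : VecSt.IsSubcurve X Y) :
    ∃ η ∈ genericPoints (X : Type u), η ∈ Y := by
  obtain ⟨𝒮, h𝒮, ⟨C, hC⟩, rfl⟩ := hY
  obtain ⟨η, hη, hgen⟩ := exists_generic_of_component (h𝒮 hC)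
  exact ⟨η, hη, ⟨C, hC, hgen.mem⟩⟩

section scalars

variable {k : Type u} [Field k] [X.Over (Spec (CommRingCat.of k))]

theorem scal_injective (x : X) : Function.Injective (VB17.scal k x) := RingHom.injective _

theorem eq_of_scal_smul [AlgebraicGeometry.IsReduced X] {η : X} (hη : η ∈ genericPoints (X : Type u))
    {M : X.Modules} (hM : TFOne.IsRkOne X M) {c d : k} {a : M.presheaf.stalk η} (ha : a ≠ 0)
    (h : VB17.scal k η c • a = VB17.scal k η d • a) : c = d := by
  obtain ⟨e⟩ := hM η hη
  letI := (isField_stalk hη).toField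
  refine scal_injective η (mul_right_cancel₀ (fun he => ha (e.map_eq_zero_iff.mp he)) ?_)
  rw [← smul_eq_mul, ← smul_eq_mul, ← map_smul, ← map_smul, h]

theorem smulMod_sub (M : X.Modules) (c d : k) :
    Formal.smulMod k M (c - d) = Formal.smulMod k M c - Formal.smulMod k M d := by
  refine Scheme.Modules.hom_ext _ _ fun U => ?_
  ext s
  show _ = (Formal.smulMod k M c).app U s - (Formal.smulMod k M d).app U s
  rw [FormalH7.smulMod_app, FormalH7.smulMod_app, FormalH7.smulMod_app, ← sub_smul]
  congr 1
  simp only [FormalH7.mult, map_sub]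
  exact map_sub (X.presheaf.map (homOfLE (le_top : U ≤ ⊤)).op).hom _ _

theorem smulMod_one (M : X.Modules) : Formal.smulMod k M 1 = 𝟙 M := by
  refine Scheme.Modules.hom_ext _ _ fun U => ?_
  ext s
  rw [FormalH7.smulMod_app]
  simp only [FormalH7.mult, map_one]
  exact (congrArg (· • (s : Γ(M, U))) (map_one (X.presheaf.map (homOfLE (le_top : U ≤ ⊤)).op).hom)).trans (one_smul _ (s : Γ(M, U)))

theorem smulMod_comp (M : X.Modules) (c d : k) :
    Formal.smulMod k M c ≫ Formal.smulMod k M d = Formal.smulMod k M (d * c) := by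
  refine Scheme.Modules.hom_ext _ _ fun U => ?_
  ext s
  rw [Scheme.Modules.Hom.comp_app, CategoryTheory.comp_apply, FormalH7.smulMod_app, FormalH7.smulMod_app,
    FormalH7.smulMod_app, ← mul_smul]
  congr 1
  simp only [FormalH7.mult, map_mul]
  exact (map_mul (X.presheaf.map (homOfLE (le_top : U ≤ ⊤)).op).hom _ _).symm

end scalars

section closed

variable {Z : Scheme.{u}} (i : Z ⟶ X) [IsClosedImmersion i]

theorem germ_eq_zero_of_push {N : Z.Modules} {U : X.Opens} {z : Z} (hz : i z ∈ U)
    (t : Γ((Scheme.Modules.pushforward i).obj N, U))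
    (h : ((Scheme.Modules.pushforward i).obj N).presheaf.germ U (i z) hz t = 0) :
    N.presheaf.germ (i ⁻¹ᵁ U) z hz t = 0 := by
  have e : TopCat.Presheaf.stalkPushforward AddCommGrpCat.{u} i.base N.presheaf z
      (((Scheme.Modules.pushforward i).obj N).presheaf.germ U (i z) hz t) = N.presheaf.germ (i ⁻¹ᵁ U) z hz t :=
    ConcreteCategory.congr_hom (TopCat.Presheaf.stalkPushforward_germ AddCommGrpCat.{u} i.base N.presheaf U z hz) t
  rw [← e, h]
  exact map_zero _

/-- A morphism into the direct image of a torsion-free sheaf vanishes if it does at the generic points. -/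
theorem hom_eq_zero_push [AlgebraicGeometry.IsReduced Z] [IsLocallyNoetherian Z]
    (hmax : ∀ z ∈ genericPoints (Z : Type u), i z ∈ genericPoints (X : Type u))
    {F : X.Modules} {N : Z.Modules} (hN : Coh.IsCoh N) (htN : TorSh.IsTorsionFree N)
    (f : F ⟶ (Scheme.Modules.pushforward i).obj N)
    (h : ∀ η ∈ genericPoints (X : Type u), ∀ a, stalkLin f η a = 0) : f = 0 := by
  haveI : Coh.IsQCoh N := hN.1
  refine Scheme.Modules.hom_ext _ _ fun U => ?_
  ext s
  refine GenericZero.eq_zero_of_maxPt (F := N) (U := i ⁻¹ᵁ U) htN (f.app U s) fun z hz hm => ?_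
  refine germ_eq_zero_of_push i hz _ ?_
  rw [← germ_naturality]
  exact h _ (hmax z (mem_genericPoints.mpr hm)) _

theorem surjective_stalkPush (N : Z.Modules) (z : Z) :
    Function.Surjective (TopCat.Presheaf.stalkPushforward AddCommGrpCat.{u} i.base N.presheaf z) := by
  haveI := TopCat.Presheaf.stalkPushforward.stalkPushforward_iso_of_isInducing
    (C := AddCommGrpCat.{u}) i.isClosedEmbedding.isInducing N.presheaf z
  exact (ConcreteCategory.bijective_of_isIso _).2

theorem mem_support_push {N : Z.Modules} {z : Z} (h : z ∈ CohB1.support N) :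
    i z ∈ CohB1.support ((Scheme.Modules.pushforward i).obj N) := fun hs => h <| by
  haveI : Subsingleton (((TopCat.Presheaf.pushforward AddCommGrpCat.{u} i.base).obj N.presheaf).stalk (i z)) := hs
  exact (surjective_stalkPush i N z).subsingleton

theorem subsingleton_push {N : Z.Modules} {x : X} (hx : x ∉ Set.range i) :
    Subsingleton (((Scheme.Modules.pushforward i).obj N).presheaf.stalk x) :=
  ⟨fun a b => (eq_zero_stalk_push i N hx a).trans (eq_zero_stalk_push i N hx b).symm⟩

theorem push_smulMod {k : Type u} [Field k] [X.Over (Spec (CommRingCat.of k))] (N : Z.Modules) (c : k) :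
    letI : Z.Over (Spec (CommRingCat.of k)) := ⟨i ≫ (X ↘ Spec (CommRingCat.of k))⟩
    (Scheme.Modules.pushforward i).map (Formal.smulMod k N c) =
      Formal.smulMod k ((Scheme.Modules.pushforward i).obj N) c := by
  letI : Z.Over (Spec (CommRingCat.of k)) := ⟨i ≫ (X ↘ Spec (CommRingCat.of k))⟩
  refine Scheme.Modules.hom_ext _ _ fun U => ?_
  ext s
  show (Formal.smulMod k N c).app (i ⁻¹ᵁ U) s = _
  rw [FormalH7.smulMod_app, FormalH7.smulMod_app]
  have e : FormalH7.mult Z c (i ⁻¹ᵁ U) = i.app U (FormalH7.mult X c U) := by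
    show Z.presheaf.map _ ((i ≫ (X ↘ Spec (CommRingCat.of k))).appTop _) = _
    rw [Scheme.Hom.comp_appTop, CommRingCat.comp_apply]
    exact (ConcreteCategory.congr_hom (i.naturality (homOfLE (le_top : U ≤ ⊤)).op) _).symm
  have key : ∀ t : Γ(N, i ⁻¹ᵁ U), FormalH7.mult Z c (i ⁻¹ᵁ U) • t = i.app U (FormalH7.mult X c U) • t :=
    fun t => congrArg (fun r : Γ(Z, i ⁻¹ᵁ U) => r • t) e
  exact key s

end closed

end Groth.Agent.TFOne27
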