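import Groth.Agent.Lib.TFOne27.End

/-!
# The image of an idempotent is a torsion-free quotient on a subcurve
-/

set_option autoImplicit false
set_option linter.style.haveILetI false

universe u

open CategoryTheory CategoryTheory.Limits AlgebraicGeometry TopologicalSpace

namespace Groth.Agent.TFOne27

open Groth.Agent.M1 Groth.Agent.CurveCoh17

variable {X : Scheme.{u}} [AlgebraicGeometry.IsReduced X] [IsNoetherian X]

/-- A point in the support of a torsion-free sheaf specialises from a generic point in the support. -/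
theorem exists_generic_support {G : X.Modules} (hG : Coh.IsCoh G) (htG : TorSh.IsTorsionFree G) {x : X}
    (hx : x ∈ CohB1.support G) : ∃ η ∈ genericPoints (X : Type u), η ⤳ x ∧ η ∈ CohB1.support G := by
  haveI : Coh.IsQCoh G := hG.1
  by_contra! hall
  obtain ⟨a, ha⟩ := exists_ne_of_mem_support hx
  obtain ⟨U, hU, s, rfl⟩ := G.presheaf.exists_germ_eq a
  have hfin : {η ∈ genericPoints (X : Type u) | ¬ η ⤳ x}.Finite :=
    (genericPoints.finite NoetherianSpace.finite_irreducibleComponents).subset fun _ h => h.1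
  let F : Set X := ⋃ η ∈ {η ∈ genericPoints (X : Type u) | ¬ η ⤳ x}, closure {η}
  have hF : IsClosed F := hfin.isClosed_biUnion fun _ _ => isClosed_closure
  let W : X.Opens := U ⊓ ⟨Fᶜ, hF.isOpen_compl⟩
  have hxW : x ∈ W := by
    refine ⟨hU, fun hxF => ?_⟩
    obtain ⟨η, ⟨-, hη⟩, hηx⟩ := Set.mem_iUnion₂.mp hxF
    exact hη (specializes_iff_mem_closure.mpr hηx)
  have h0 : mres G (inf_le_left : W ≤ U) s = 0 := by
    refine GenericZero.eq_zero_of_maxPt htG _ fun z hz hmax => ?_
    have hzx : z ⤳ x := by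
      by_contra hn
      exact hz.2 (Set.mem_iUnion₂.mpr ⟨z, ⟨mem_genericPoints.mpr hmax, hn⟩, subset_closure rfl⟩)
    haveI := subsingleton_of_not_mem_support (hall z (mem_genericPoints.mpr hmax) hzx)
    exact Subsingleton.elim _ _
  refine ha ?_
  rw [← germ_mres G (inf_le_left : W ≤ U) hxW s, h0, map_zero]

theorem isTorsionFree_of_mono {F G : X.Modules} (i : F ⟶ G) [Mono i] (hG : TorSh.IsTorsionFree G) :
    TorSh.IsTorsionFree F := fun x => by
  haveI := hG x
  exact Function.Injective.moduleIsTorsionFree (stalkLin i x) (injective_stalkLin i x) fun r a => map_smul _ r a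

theorem exists_quotOn {M : X.Modules} (hM : TFOne.IsTF1 X M) (e : M ⟶ M) (he : e ≫ e = e)
    (h01 : ∀ η ∈ genericPoints (X : Type u), (∀ a, stalkLin e η a = a) ∨ (∀ a, stalkLin e η a = 0))
    (h1 : ∃ η ∈ genericPoints (X : Type u), ∀ a, stalkLin e η a = a)
    (h0 : ∃ η ∈ genericPoints (X : Type u), ∀ a, stalkLin e η a = 0) :
    ∃ (Y : Set X) (_ : IsClosed Y) (GY : X.Modules) (p : M ⟶ GY) (i : GY ⟶ M),
      VecSt.IsSubcurve X Y ∧ Y ≠ Set.univ ∧ TFOne.IsQuotOn X M Y GY p ∧ i ≫ p = 𝟙 GY ∧ p ≫ i = e := by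
  obtain ⟨GY, i, p, hip, hpi⟩ := IsIdempotentComplete.idempotents_split M e he
  haveI : Mono i := (SplitMono.mk p hip).mono
  haveI : Epi p := (SplitEpi.mk i hip).epi
  have hc : Coh.IsCoh GY := KS29.isCoh_of_retract hM.1 i p hip
  have ht : TorSh.IsTorsionFree GY := isTorsionFree_of_mono i hM.2.1
  let S : Set X := {η | η ∈ genericPoints (X : Type u) ∧ ∀ a, stalkLin e η a = a}
  have hmem : ∀ η ∈ genericPoints (X : Type u), η ∈ CohB1.support GY ↔ η ∈ S := by
    intro η hη
    refine ⟨fun h => ⟨hη, ?_⟩, fun h hs => ?_⟩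
    · obtain ⟨b, hb⟩ := exists_ne_of_mem_support h
      refine (h01 η hη).resolve_right fun h0' => hb ?_
      refine injective_stalkLin i η (Eq.trans ?_ (map_zero _).symm)
      have := h0' (stalkLin i η b)
      rw [← hpi, stalkLin_comp, ← stalkLin_comp i p, hip] at this
      refine Eq.trans ?_ this
      exact congrArg (stalkLin i η) (show b = (stalkAb η).map (𝟙 GY) b by
        rw [CategoryTheory.Functor.map_id, CategoryTheory.id_apply])
    · obtain ⟨a, ha⟩ := exists_ne_of_mem_support (mem_support_of_rkOne hM.2.2 hη)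
      refine ha ?_
      rw [← h.2 a, ← hpi, stalkLin_comp, Subsingleton.elim (h := hs) (stalkLin p η a) 0, map_zero]
  have hsupp : CohB1.support GY = ⋃ η ∈ S, closure {η} := by
    ext x
    constructor
    · intro hx
      obtain ⟨η, hη, hηx, hs⟩ := exists_generic_support hc ht hx
      exact Set.mem_iUnion₂.mpr ⟨η, (hmem η hη).mp hs, specializes_iff_mem_closure.mp hηx⟩
    · intro hx
      obtain ⟨η, hη, hηx⟩ := Set.mem_iUnion₂.mp hx
      exact closure_minimal (Set.singleton_subset_iff.mpr ((hmem η hη.1).mpr hη)) (M1.isClosed_support hc.2) hηx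
  have hclosed : IsClosed (CohB1.support GY) := M1.isClosed_support hc.2
  refine ⟨CohB1.support GY, hclosed, GY, p, i, ?_, ?_, ⟨inferInstance, hc, ht, rfl⟩, hip, hpi⟩
  · refine ⟨(fun η => closure {η}) '' S, ?_, ?_, ?_⟩
    · rintro C ⟨η, hη, rfl⟩
      exact hη.1
    · obtain ⟨η, hη, h⟩ := h1
      exact ⟨_, η, ⟨hη, h⟩, rfl⟩
    · rw [hsupp, Set.sUnion_image]
  · intro hu
    obtain ⟨η, hη, h⟩ := h0
    obtain ⟨-, h'⟩ := (hmem η hη).mp (hu ▸ Set.mem_univ η)
    obtain ⟨a, ha⟩ := exists_ne_of_mem_support (mem_support_of_rkOne hM.2.2 hη)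
    exact ha ((h' a).symm.trans (h a))

end Groth.Agent.TFOne27
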