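import Groth.Agent.Lib.TFOne27.Special
import Groth.Agent.Lib.ModM1.Push

/-!
# Existence of torsion-free quotients on closed unions of components
-/

set_option autoImplicit false
set_option linter.style.haveILetI false

universe u

open CategoryTheory CategoryTheory.Limits AlgebraicGeometry TopologicalSpace Opposite

namespace Groth.Agent.TFOne27

open Groth.Agent.M1 Groth.Agent.M2 Groth.Agent.CurveCoh17

variable {X : Scheme.{u}}

/-- Sections are determined by their germs at the generic points. -/
def SecDet (Q : X.Modules) : Prop :=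
  ∀ (U : X.Opens) (s : Γ(Q, U)),
    (∀ η, η ∈ genericPoints (X : Type u) → ∀ (hη : η ∈ U), Q.presheaf.germ U η hη s = 0) → s = 0

theorem secDet_of_isZero {Q : X.Modules} (h : ∀ x, Subsingleton (Q.presheaf.stalk x)) : SecDet Q :=
  fun U s _ => M1.section_ext _ _ fun x hx => Subsingleton.elim (h := h x) _ _

theorem secDet_of_mono {F G : X.Modules} (i : F ⟶ G) [Mono i] (h : SecDet G) : SecDet F := fun U s hs => by
  have h0 : i.app U s = 0 := h U _ fun η hη hU => by
    rw [← germ_naturality, hs η hη hU]; exact map_zero _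
  refine M1.section_ext _ _ fun x hx => injective_stalkLin i x ?_
  rw [map_zero, map_zero, stalkLin_apply, germ_naturality, h0]
    <;> exact map_zero _

theorem secDet_biprod {F G : X.Modules} (hF : SecDet F) (hG : SecDet G) : SecDet (F ⊞ G) := fun U s hs => by
  have h1 : (biprod.fst : F ⊞ G ⟶ F).app U s = 0 := hF U _ fun η hη hU => by
    rw [← germ_naturality, hs η hη hU]; exact map_zero _
  have h2 : (biprod.snd : F ⊞ G ⟶ G).app U s = 0 := hG U _ fun η hη hU => by
    rw [← germ_naturality, hs η hη hU]; exact map_zero _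
  refine M1.section_ext _ _ fun x hx => ?_
  rw [map_zero, ← isIso_stalk_id (F := F ⊞ G) x ((F ⊞ G).presheaf.germ U x hx s), ← biprod.total,
    stalkLin_add, stalkLin_comp, stalkLin_comp, stalkLin_apply biprod.fst, stalkLin_apply biprod.snd,
    germ_naturality, germ_naturality, h1, h2]
  simp only [map_zero, add_zero]

/-- Finitely many generic points away from the generalisations of a point. -/
theorem exists_nhd [IsNoetherian X] (x : X) (U : X.Opens) (hx : x ∈ U) :
    ∃ W : X.Opens, W ≤ U ∧ x ∈ W ∧ ∀ η ∈ genericPoints (X : Type u), η ∈ W → η ⤳ x := by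
  have hfin : {η ∈ genericPoints (X : Type u) | ¬ η ⤳ x}.Finite :=
    (genericPoints.finite NoetherianSpace.finite_irreducibleComponents).subset fun _ h => h.1
  let F : Set X := ⋃ η ∈ {η ∈ genericPoints (X : Type u) | ¬ η ⤳ x}, closure {η}
  have hF : IsClosed F := hfin.isClosed_biUnion fun _ _ => isClosed_closure
  refine ⟨U ⊓ ⟨Fᶜ, hF.isOpen_compl⟩, inf_le_left, ⟨hx, fun hxF => ?_⟩, fun η hη hW => ?_⟩
  · obtain ⟨η, ⟨-, hη⟩, hηx⟩ := Set.mem_iUnion₂.mp hxF
    exact hη (specializes_iff_mem_closure.mpr hηx)
  · by_contra hn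
    exact hW.2 (Set.mem_iUnion₂.mpr ⟨η, ⟨hη, hn⟩, subset_closure rfl⟩)

theorem isUnit_of_regular {x η : X} [AlgebraicGeometry.IsReduced X] (hη : η ∈ genericPoints (X : Type u))
    (h : η ⤳ x) {r : X.presheaf.stalk x} (hr : IsRegular r) : IsUnit (X.presheaf.stalkSpecializes h r) := by
  letI := (isField_stalk hη).toField
  refine isUnit_iff_ne_zero.mpr fun h0 => ?_
  obtain ⟨U, hxU, c, rfl⟩ := X.presheaf.germ_exist r
  obtain ⟨V, hV, hxV, hVU⟩ := exists_isAffineOpen_mem_and_subset (x := x) hxU
  have hηV : η ∈ V := h.mem_open V.2 hxV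
  let c' : Γ(X, V) := ores hVU c
  have hcx : X.presheaf.germ V x hxV c' = X.presheaf.germ U x hxU c :=
    X.presheaf.germ_res_apply (homOfLE hVU) x hxV c
  rw [← hcx, TopCat.Presheaf.germ_stalkSpecializes_apply] at h0
  obtain ⟨W, hηW, iW, iW', e0⟩ := X.presheaf.germ_eq η hηV hηV c' 0 (by
    rw [map_zero]; exact h0)
  obtain ⟨e, he, hηe⟩ := hV.exists_basicOpen_le (⟨η, hηW⟩ : W) hηV
  have hc0 : ores (X.basicOpen_le e) c' = 0 := by
    rw [show ores (X.basicOpen_le e) c' = ores he (X.presheaf.map iW.op c') from (ores_ores iW.le he c').symm, e0]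
    exact (congrArg _ (map_zero _)).trans (map_zero _)
  obtain ⟨n, hn⟩ := exists_pow_mul_eq_zero_of_res_basicOpen_eq_zero_of_isCompact X hV.isCompact c' e hc0
  have h1 : X.presheaf.germ V x hxV (e ^ n) = 0 := by
    refine hr.right ?_
    show X.presheaf.germ V x hxV (e ^ n) * X.presheaf.germ U x hxU c = 0 * X.presheaf.germ U x hxU c
    rw [← hcx, ← map_mul, hn, map_zero, zero_mul]
  have h2 : IsUnit (X.presheaf.germ V η hηV (e ^ n)) := by
    rw [map_pow]; exact ((X.mem_basicOpen e η hηV).mp hηe).pow n
  refine h2.ne_zero ?_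
  rw [← TopCat.Presheaf.germ_stalkSpecializes_apply X.presheaf hxV h, h1, map_zero]

/-- A coherent module whose sections are determined at the generic points is torsion-free. -/
theorem isTorsionFree_of_secDet [AlgebraicGeometry.IsReduced X] [IsNoetherian X] {Q : X.Modules} (hQ : SecDet Q) :
    TorSh.IsTorsionFree Q := fun x => by
  refine ⟨fun r hr => (injective_iff_map_eq_zero (DistribSMul.toAddMonoidHom (Q.presheaf.stalk x) r)).mpr
    fun a ha => ?_⟩
  obtain ⟨U, hxU, c, rfl⟩ := X.presheaf.germ_exist r
  obtain ⟨V, hxV, s, rfl⟩ := Q.presheaf.exists_germ_eq a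
  have ha' : Q.presheaf.germ (U ⊓ V) x ⟨hxU, hxV⟩ (ores (inf_le_left : U ⊓ V ≤ U) c • mres Q (inf_le_right : U ⊓ V ≤ V) s) = 0 := by
    rw [germ_smul, germ_mres]
    refine Eq.trans ?_ (show X.presheaf.germ U x hxU c • Q.presheaf.germ V x hxV s = 0 from ha)
    congr 1
    exact X.presheaf.germ_res_apply (homOfLE (inf_le_left : U ⊓ V ≤ U)) x _ c
  obtain ⟨W₀, hxW₀, iW, iW', e0⟩ := Q.presheaf.germ_eq (U := U ⊓ V) (V := U ⊓ V) x ⟨hxU, hxV⟩ ⟨hxU, hxV⟩
    (ores (inf_le_left : U ⊓ V ≤ U) c • mres Q (inf_le_right : U ⊓ V ≤ V) s) 0 (by rw [ha', map_zero])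
  obtain ⟨W, hWW₀, hxW, hW⟩ := exists_nhd x W₀ hxW₀
  have hWUV : W ≤ U ⊓ V := hWW₀.trans iW.le
  have h0 : mres Q (hWUV.trans inf_le_right) s = 0 := hQ W _ fun η hη hηW => by
    rw [germ_mres]
    have h1 : Q.presheaf.germ W₀ η (hWW₀ hηW) (Q.presheaf.map iW.op (ores (inf_le_left : U ⊓ V ≤ U) c • mres Q (inf_le_right : U ⊓ V ≤ V) s)) = 0 := by
      rw [e0]
      exact (congrArg _ (map_zero _)).trans (map_zero _)
    rw [TopCat.Presheaf.germ_res_apply, germ_smul, germ_mres] at h1
    refine (((isUnit_of_regular hη (hW η hη hηW) hr)).smul_eq_zero).mp (Eq.trans ?_ h1)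
    congr 1
    rw [TopCat.Presheaf.germ_stalkSpecializes_apply]
    exact (X.presheaf.germ_res_apply (homOfLE (inf_le_left : U ⊓ V ≤ U)) η _ c).symm
  rw [← germ_mres Q (hWUV.trans inf_le_right) hxW s, h0, map_zero]

theorem subsingleton_spec_of_isField {A : CommRingCat.{u}} (hA : IsField A) : Subsingleton (Spec A) := by
  letI := hA.toField
  exact inferInstanceAs (Subsingleton (PrimeSpectrum A))

theorem closedPoint_map (η : X) :
    X.fromSpecStalk η (IsLocalRing.closedPoint (X.presheaf.stalk η)) = η :=
  Scheme.fromSpecStalk_closedPoint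

/-- The sheaf of the stalk at a generic point. -/
noncomputable abbrev atGen (M : X.Modules) (η : X) : X.Modules :=
  (Scheme.Modules.pushforward (X.fromSpecStalk η)).obj ((Scheme.Modules.pullback (X.fromSpecStalk η)).obj M)

theorem secDet_atGen [AlgebraicGeometry.IsReduced X] (M : X.Modules) {η : X}
    (hη : η ∈ genericPoints (X : Type u)) : SecDet (atGen M η) := fun U s h => by
  let j := X.fromSpecStalk η
  let N := (Scheme.Modules.pullback j).obj M
  haveI := subsingleton_spec_of_isField (A := X.presheaf.stalk η) (isField_stalk hη)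
  refine M1.section_ext (M := N) (U := j ⁻¹ᵁ U) s 0 fun p hp => ?_
  have hpη : j p = η := by
    rw [Subsingleton.elim p (IsLocalRing.closedPoint (X.presheaf.stalk η))]; exact closedPoint_map η
  have hU : η ∈ U := hpη ▸ hp
  have hh : ∀ (y : X) (hy : y ∈ U), y = η → (atGen M η).presheaf.germ U y hy s = 0 := by
    rintro y hy rfl
    exact h _ hη hy
  have h' : (atGen M η).presheaf.germ U (j p) hp s = 0 := hh _ hp hpη
  rw [map_zero]
  have e : TopCat.Presheaf.stalkPushforward AddCommGrpCat.{u} j.base N.presheaf p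
      ((atGen M η).presheaf.germ U (j p) hp s) = N.presheaf.germ (j ⁻¹ᵁ U) p hp s :=
    ConcreteCategory.congr_hom (TopCat.Presheaf.stalkPushforward_germ AddCommGrpCat.{u} j.base N.presheaf U p hp) s
  rw [← e, h']
  exact map_zero _

theorem isQCoh_atGen [AlgebraicGeometry.IsReduced X] [IsNoetherian X] {M : X.Modules} (hM : Coh.IsQCoh M) {η : X}
    (hη : η ∈ genericPoints (X : Type u)) : Coh.IsQCoh (atGen M η) := by
  haveI := subsingleton_spec_of_isField (A := X.presheaf.stalk η) (isField_stalk hη)
  haveI : QuasiCompact (X.fromSpecStalk η) := ⟨fun U _ _ => Set.Subsingleton.isCompact (Set.subsingleton_of_subsingleton)⟩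
  exact M1.isQCoh_push _ (M1.isQCoh_pullback _ hM)

theorem injective_toAtGen [AlgebraicGeometry.IsReduced X] (M : X.Modules) {η : X}
    (hη : η ∈ genericPoints (X : Type u)) :
    Function.Injective (stalkLin ((Scheme.Modules.pullbackPushforwardAdjunction (X.fromSpecStalk η)).unit.app M) η) := by
  let j := X.fromSpecStalk η
  have key : ∀ (p : Spec (X.presheaf.stalk η)), j p ∈ genericPoints (X : Type u) →
      Function.Injective (stalkLin ((Scheme.Modules.pullbackPushforwardAdjunction j).unit.app M) (j p)) := by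
    intro p hp
    refine (injective_iff_map_eq_zero _).mpr fun a ha => ?_
    have h1 : stalkUnit j p M a = 0 := by
      show TopCat.Presheaf.stalkPushforward AddCommGrpCat.{u} j.base ((Scheme.Modules.pullback j).obj M).presheaf p
        (stalkLin ((Scheme.Modules.pullbackPushforwardAdjunction j).unit.app M) (j p) a) = 0
      rw [ha]
      exact map_zero _
    rw [stalkUnit_eq_zero] at h1
    letI := (isField_stalk hp).toField
    have hk : RingHom.ker (j.stalkMap p).hom = ⊥ :=
      (RingHom.injective_iff_ker_eq_bot _).mp (j.stalkMap p).hom.injective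
    rwa [hk, Submodule.bot_smul, Submodule.mem_bot] at h1
  have := key (IsLocalRing.closedPoint (X.presheaf.stalk η))
  rw [closedPoint_map] at this
  exact this hη

/-- The sum of the stalks at finitely many generic points. -/
theorem exists_detect [AlgebraicGeometry.IsReduced X] [IsNoetherian X] {M : X.Modules} (hM : Coh.IsQCoh M)
    (S : Finset X) : (∀ η ∈ S, η ∈ genericPoints (X : Type u)) →
    ∃ (Q : X.Modules) (q : M ⟶ Q), Coh.IsQCoh Q ∧ SecDet Q ∧ (∀ η ∈ S, Function.Injective (stalkLin q η)) ∧
      ∀ x, (∀ η ∈ S, ¬ η ⤳ x) → Subsingleton (Q.presheaf.stalk x) := by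
  classical
  induction S using Finset.induction_on with
  | empty =>
    intro _
    have hz : IsZero (kernel (𝟙 M)) := isZero_kernel_of_mono _
    refine ⟨kernel (𝟙 M), 0, M1.isQCoh_isZero hz, secDet_of_isZero fun x => ?_, by simp, fun x _ => ?_⟩ <;>
      exact AddCommGrpCat.subsingleton_of_isZero ((stalkAb x).map_isZero hz)
  | insert a S ha ih =>
    intro hgen
    obtain ⟨Q, q, hQ, hdQ, hinj, hsupp⟩ := ih fun η hη => hgen η (Finset.mem_insert_of_mem hη)
    have hag := hgen a (Finset.mem_insert_self a S)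
    let u := (Scheme.Modules.pullbackPushforwardAdjunction (X.fromSpecStalk a)).unit.app M
    refine ⟨atGen M a ⊞ Q, biprod.lift u q, M1.isQCoh_biprod (isQCoh_atGen hM hag) hQ,
      secDet_biprod (secDet_atGen M hag) hdQ, ?_, ?_⟩
    · intro η hη
      refine (injective_iff_map_eq_zero _).mpr fun b hb => ?_
      rcases Finset.mem_insert.mp hη with rfl | hη
      · have h1 : stalkLin (biprod.lift u q ≫ biprod.fst) η b = 0 := by
          rw [stalkLin_comp]
          exact (congrArg _ hb).trans (map_zero _)
        rw [biprod.lift_fst] at h1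
        exact injective_toAtGen M hag (h1.trans (map_zero _).symm)
      · have h1 : stalkLin (biprod.lift u q ≫ biprod.snd) η b = 0 := by
          rw [stalkLin_comp]
          exact (congrArg _ hb).trans (map_zero _)
        rw [biprod.lift_snd] at h1
        exact hinj η hη (h1.trans (map_zero _).symm)
    · intro x hx
      haveI := hsupp x fun η hη => hx η (Finset.mem_insert_of_mem hη)
      haveI : Subsingleton ((atGen M a).presheaf.stalk x) := by
        obtain ⟨W, -, hxW, hW⟩ := exists_nhd x ⊤ trivial
        refine ⟨fun b c => ?_⟩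
        suffices hz : ∀ b : (atGen M a).presheaf.stalk x, b = 0 from (hz b).trans (hz c).symm
        intro b
        obtain ⟨U, hxU, t, rfl⟩ := (atGen M a).presheaf.exists_germ_eq b
        have : mres (atGen M a) (inf_le_left : U ⊓ W ≤ U) t = 0 := secDet_atGen M hag _ _ fun η hη hηW => by
          have hne : η ≠ a := fun e => hx a (Finset.mem_insert_self a S) (e ▸ hW η hη hηW.2)
          haveI : Subsingleton ((atGen M a).presheaf.stalk η) := by
            refine ⟨fun b c => ?_⟩
            suffices hz : ∀ b : (atGen M a).presheaf.stalk η, b = 0 from (hz b).trans (hz c).symm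
            intro b
            obtain ⟨U', hU', t', rfl⟩ := (atGen M a).presheaf.exists_germ_eq b
            obtain ⟨W', -, hηW', hW'⟩ := exists_nhd η U' hU'
            have : mres (atGen M a) (inf_le_left : U' ⊓ W' ≤ U') t' = 0 :=
              secDet_atGen M hag _ _ fun θ hθ hθW => by
                have e1 : θ = η := mem_genericPoints.mp hη θ (hW' θ hθ hθW.2)
                subst e1
                have e2 : (U' ⊓ W').1 ∩ Set.range (X.fromSpecStalk a) = ∅ := by
                  ext y
                  simp only [Set.mem_inter_iff, Set.mem_empty_iff_false, iff_false, not_and]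
                  rintro hy ⟨p, rfl⟩
                  haveI := subsingleton_spec_of_isField (A := X.presheaf.stalk a) (isField_stalk hag)
                  rw [Subsingleton.elim p (IsLocalRing.closedPoint (X.presheaf.stalk a)), closedPoint_map] at hy
                  exact hne (mem_genericPoints.mp hη a (hW' a hag hy.2)).symm
                have e3 : mres (atGen M a) (inf_le_left : U' ⊓ W' ≤ U') t' = 0 := by
                  refine M1.section_ext (M := (Scheme.Modules.pullback (X.fromSpecStalk a)).obj M)
                    (U := (X.fromSpecStalk a) ⁻¹ᵁ (U' ⊓ W')) _ _ fun p hp => ?_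
                  exact absurd (e2.le ⟨hp, ⟨p, rfl⟩⟩) (Set.notMem_empty _)
                rw [e3, map_zero]
            rw [← germ_mres (atGen M a) (inf_le_left : U' ⊓ W' ≤ U') ⟨hU', hηW'⟩ t', this, map_zero]
          exact Subsingleton.elim _ _
        rw [← germ_mres (atGen M a) (inf_le_left : U ⊓ W ≤ U) ⟨hxU, hxW⟩ t, this, map_zero]
      refine ⟨fun b c => ?_⟩
      rw [← isIso_stalk_id (F := atGen M a ⊞ Q) x b, ← isIso_stalk_id (F := atGen M a ⊞ Q) x c, ← biprod.total,
        stalkLin_add, stalkLin_add, stalkLin_comp, stalkLin_comp, stalkLin_comp, stalkLin_comp,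
        Subsingleton.elim (stalkLin biprod.fst x b) (stalkLin biprod.fst x c),
        Subsingleton.elim (stalkLin biprod.snd x b) (stalkLin biprod.snd x c)]

/-- Every closed union of components carries a torsion-free quotient of a coherent module of rank one. -/
theorem exists_isQuotOn [AlgebraicGeometry.IsReduced X] [IsNoetherian X] {M : X.Modules} (hM : TFOne.IsTF1 X M)
    (T : Set X) (hT : IsClosed T) (hTg : ∀ x ∈ T, ∃ η ∈ genericPoints (X : Type u), η ∈ T ∧ η ⤳ x) :
    ∃ (G : X.Modules) (p : M ⟶ G), TFOne.IsQuotOn X M T G p := by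
  classical
  let hfin : (genericPoints (X : Type u) ∩ T).Finite :=
    (genericPoints.finite NoetherianSpace.finite_irreducibleComponents).subset Set.inter_subset_left
  obtain ⟨Q, q, hQ, hdQ, hinj, hsupp⟩ := exists_detect hM.1.1 hfin.toFinset
    fun η hη => (hfin.mem_toFinset.mp hη).1
  let G := Abelian.image q
  have hcQ : Coh.IsQCoh (cokernel q) := M1.isQCoh_cokernel hM.1.1 hQ q
  have hqG : Coh.IsQCoh G := M1.isQCoh_kernel hQ hcQ _
  have hG : Coh.IsCoh G := ⟨hqG, M1.isFT_of_epi (Abelian.factorThruImage q) hM.1.2⟩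
  have htG : TorSh.IsTorsionFree G := isTorsionFree_of_secDet (secDet_of_mono (Abelian.image.ι q) hdQ)
  refine ⟨G, Abelian.factorThruImage q, inferInstance, hG, htG, ?_⟩
  ext x
  constructor
  · intro hx
    by_contra hxT
    haveI := hsupp x fun η hη hηx => hxT (hηx.mem_closed hT (hfin.mem_toFinset.mp hη).2)
    exact hx (Function.Injective.subsingleton (injective_stalkLin (Abelian.image.ι q) x))
  · intro hx
    obtain ⟨η, hη, hηT, hηx⟩ := hTg x hx
    refine hηx.mem_closed (M1.isClosed_support hG.2) ?_
    obtain ⟨a, ha⟩ := exists_ne_of_mem_support (mem_support_of_rkOne hM.2.2 hη)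
    intro hs
    haveI : Subsingleton (G.presheaf.stalk η) := hs
    refine ha (hinj η (hfin.mem_toFinset.mpr ⟨hη, hηT⟩) (Eq.trans ?_ (map_zero _).symm))
    rw [← Abelian.image.fac q, stalkLin_comp,
      Subsingleton.elim (stalkLin (Abelian.factorThruImage q) η a) 0, map_zero]

end Groth.Agent.TFOne27
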