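import Groth.Agent.Lib.TFOne27.DegAdd
import Groth.Agent.Lib.TFOne27.Exist
import Groth.Agent.Lib.TensorMod.Invertible

/-!
# The invariant `β` of quotients of elementary modifications
-/

set_option autoImplicit false
set_option linter.style.haveILetI false

universe u

open CategoryTheory CategoryTheory.Limits AlgebraicGeometry TopologicalSpace

namespace Groth.Agent.TFOne27

open Groth.Agent.M1 Groth.Agent.M2 Groth.Agent.CurveCoh17

variable {X : Scheme.{u}}

theorem genClosed_of_subcurve {Y : Set X} (h : VecSt.IsSubcurve X Y) : GenClosed Y :=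
  fun _ hy => exists_generic_specializes h hy

theorem genClosed_sUnion (S : Set (Set X)) (hS : S ⊆ irreducibleComponents (X : Type u)) : GenClosed (⋃₀ S) := by
  rintro x ⟨C, hC, hx⟩
  obtain ⟨η, hη, hgen⟩ := exists_generic_of_component (hS hC)
  exact ⟨η, hη, ⟨C, hC, hgen.mem⟩, hgen.specializes hx⟩

theorem isClosed_sUnion [IsNoetherian X] (S : Set (Set X)) (hS : S ⊆ irreducibleComponents (X : Type u)) :
    IsClosed (⋃₀ S) := by
  rw [Set.sUnion_eq_biUnion]
  exact (NoetherianSpace.finite_irreducibleComponents.subset hS).isClosed_biUnion fun C hC =>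
    isClosed_of_mem_irreducibleComponents C (hS hC)

/-- The generic points of the common components. -/
theorem mem_meet_iff {Y Z W : Set X} (hY : IsClosed Y) (hZ : IsClosed Z)
    (hW : W = ⋃₀ {C | C ∈ irreducibleComponents (X : Type u) ∧ C ⊆ Y ∩ Z}) {η : X}
    (hη : η ∈ genericPoints (X : Type u)) : η ∈ W ↔ η ∈ Y ∧ η ∈ Z := by
  rw [hW]
  constructor
  · rintro ⟨C, ⟨-, hC⟩, hηC⟩
    exact hC hηC
  · intro h
    exact ⟨closure {η}, ⟨hη, closure_minimal (Set.singleton_subset_iff.mpr h) (hY.inter hZ)⟩, subset_closure rfl⟩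

/-- The generic points of the other components. -/
theorem mem_compl_iff {Y Y' : Set X} (hY : IsClosed Y)
    (hY' : Y' = ⋃₀ {C | C ∈ irreducibleComponents (X : Type u) ∧ ¬ C ⊆ Y}) {η : X}
    (hη : η ∈ genericPoints (X : Type u)) : η ∈ Y' ↔ η ∉ Y := by
  rw [hY']
  constructor
  · rintro ⟨C, ⟨hC, hCY⟩, hηC⟩ h
    exact hCY ((isGenericPoint_of_mem hη hC hηC).def ▸ closure_minimal (Set.singleton_subset_iff.mpr h) hY)
  · exact fun h => ⟨closure {η}, ⟨hη, fun hs => h (hs (subset_closure rfl))⟩, subset_closure rfl⟩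

theorem isSubcurve_union {Y Z : Set X} (hY : VecSt.IsSubcurve X Y) (hZ : VecSt.IsSubcurve X Z) :
    VecSt.IsSubcurve X (Y ∪ Z) := by
  obtain ⟨S, hS, hne, rfl⟩ := hY
  obtain ⟨T, hT, -, rfl⟩ := hZ
  exact ⟨S ∪ T, Set.union_subset hS hT, hne.inl, (Set.sUnion_union S T).symm⟩

theorem isSubcurve_univ (x : X) : VecSt.IsSubcurve X Set.univ := by
  refine ⟨irreducibleComponents (X : Type u), le_rfl,
    ⟨_, irreducibleComponent_mem_irreducibleComponents x⟩, ?_⟩
  rw [sUnion_irreducibleComponents]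

theorem isIso_unitToPush_univ [AlgebraicGeometry.IsReduced X] [IsLocallyNoetherian X] :
    IsIso (ClSub.unitToPush (VecSt.subschι X Set.univ isClosed_univ)) := by
  haveI := FGA3.epi_unitToPush (VecSt.subschι X Set.univ isClosed_univ)
  have h : kernel.ι (ClSub.unitToPush (VecSt.subschι X Set.univ isClosed_univ)) = 0 := by
    refine hom_eq_zero isTF1_structureModule.1 isTF1_structureModule.2.1 _ fun η hη a => ?_
    rw [eq_zero_stalk_kernel _ η (injective_at_generic isTF1_structureModule.2.2 _ hη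
      (by rw [show CohB1.support ((Scheme.Modules.pushforward (VecSt.subschι X Set.univ isClosed_univ)).obj
        (Coh.structureModule _)) = Set.univ from support_OT Set.univ isClosed_univ]; trivial)) a, map_zero]
  haveI := Preadditive.mono_of_kernel_zero h
  exact isIso_of_mono_of_epi _

variable {k : Type u} [Field k] [X.Over (Spec (CommRingCat.of k))]

theorem euler_eq_zero (hX : CurveLike k X) {M : X.Modules} (hM : Coh.IsCoh M)
    (h : ∀ x, Subsingleton (M.presheaf.stalk x)) : Curv2.euler k X M = 0 := by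
  have hs : SuppIn M (∅ : Finset X) := ⟨by simp, fun x _ a => Subsingleton.elim (h := h x) _ _⟩
  haveI : Subsingleton (Coh.HH X M 0) :=
    ⟨fun p q => (hh0 _).injective (hs.section_ext _ _ fun _ hx => absurd hx (Finset.notMem_empty _))⟩
  rw [hs.euler_eq (hX.fin _ hM 0), Module.finrank_zero_of_subsingleton]
  rfl

theorem euler_biprod (hX : CurveLike k X) {A B : X.Modules} (hA : Coh.IsCoh A) (hB : Coh.IsCoh B) :
    Curv2.euler k X (A ⊞ B) = Curv2.euler k X A + Curv2.euler k X B :=
  euler_add (k := k) (S := ShortComplex.mk (biprod.inl : A ⟶ A ⊞ B) biprod.snd biprod.inl_snd)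
    (ShortComplex.Splitting.ofHasBinaryBiproduct A B).shortExact (hX.adm hA) (hX.adm hB)

/-- `r β`. -/
noncomputable def beta (k : Type u) [Field k] [X.Over (Spec (CommRingCat.of k))] (E : X.Modules) (r : ℕ)
    (T : Set X) (hT : IsClosed T) (G : X.Modules) : ℤ :=
  (r : ℤ) * Curv2.euler k X G + delta k E r (OT T hT)

theorem rBeta_eq [IsProper (X ↘ Spec (CommRingCat.of k))] {E : X.Modules} {r : ℕ}
    (hE : FlatMod.IsFinLocFreeOfRank r E) (T : Set X) (hT : IsClosed T) (G : X.Modules) :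
    TFOne.rBeta X k (X ↘ Spec (CommRingCat.of k)) T hT E r G = beta k E r T hT G := by
  rw [beta, delta_OT k T hT hE]
  rfl

theorem delta_univ [AlgebraicGeometry.IsReduced X] [IsLocallyNoetherian X] (E : X.Modules) (r : ℕ) :
    delta k E r (OT (X := X) Set.univ isClosed_univ) = Curv2.deg k X E r := by
  haveI := isIso_unitToPush_univ (X := X)
  let e := asIso (ClSub.unitToPush (VecSt.subschι X Set.univ isClosed_univ))
  have h1 : Curv2.euler k X (CohB1.tensorMod (OT (X := X) Set.univ isClosed_univ) E) = Curv2.euler k X E :=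
    euler_iso (M2.tensorComm _ E ≪≫ ⟨M2.tensorMap (𝟙 E) e.inv, M2.tensorMap (𝟙 E) e.hom,
      by rw [← M2.tensorMap_comp, Category.comp_id, e.inv_hom_id, M2.tensorMap_id],
      by rw [← M2.tensorMap_comp, Category.comp_id, e.hom_inv_id, M2.tensorMap_id]⟩ ≪≫ M2.tensorRUnit E)
  have h2 : Curv2.euler k X (OT (X := X) Set.univ isClosed_univ) = Curv2.euler k X (Coh.structureModule X) :=
    euler_iso e.symm
  rw [delta, h1, h2]
  rfl

/-- `β` of the whole curve vanishes. -/
theorem beta_univ [AlgebraicGeometry.IsReduced X] (hX : CurveLike k X) {M G : X.Modules} (hM : TFOne.IsTF1 X M)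
    (π : M ⟶ G) (hG : TFOne.IsQuotOn X M Set.univ G π) {E : X.Modules} {r : ℕ} {d : ℤ}
    (hχ : Curv2.euler k X M = d) (hEd : Curv2.deg k X E r = -(r : ℤ) * d) :
    beta k E r Set.univ isClosed_univ G = 0 := by
  haveI := hX.noetherian
  obtain ⟨hep, hcG, htG, hsG⟩ := hG
  haveI := hep
  obtain ⟨e, -⟩ := nonempty_iso_of_quot hM.2.2 π (𝟙 M) hcG htG hM.1 hM.2.1 fun η hη => by
    simp [hsG, mem_support_of_rkOne hM.2.2 hη]
  rw [beta, delta_univ, euler_iso e, hχ, hEd]
  ring

theorem beta_empty (hX : CurveLike k X) {E : X.Modules} {r : ℕ}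
    (hE : FlatMod.IsFinLocFreeOfRank r E) {T : Set X} (hT : IsClosed T) (hT0 : T = ∅) {G : X.Modules}
    (hG : Coh.IsCoh G) (hs : CohB1.support G = T) : beta k E r T hT G = 0 := by
  haveI := hX.noetherian
  have hz : ∀ (N : X.Modules), CohB1.support N = T → ∀ x, Subsingleton (N.presheaf.stalk x) := fun N hN x =>
    not_not.mp fun h => by
      have : x ∈ CohB1.support N := h
      rw [hN, hT0] at this
      exact this
  have h1 : SuppIn (OT T hT) (∅ : Finset X) :=
    ⟨by simp, fun x _ a => Subsingleton.elim (h := hz _ (support_OT T hT) x) _ _⟩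
  have h2 : Curv2.euler k X (CohB1.tensorMod (OT T hT) E) = 0 :=
    euler_eq_zero hX (CurveCoh17.isCoh_tensor (isCoh_OT T hT) (CurveCoh17.isCoh_of_ofRank hE)) fun x =>
      ⟨fun a b => ((h1.tensor E).zero x (by simp) a).trans ((h1.tensor E).zero x (by simp) b).symm⟩
  rw [beta, delta, h2, euler_eq_zero hX (isCoh_OT T hT) (hz _ (support_OT T hT)), euler_eq_zero hX hG (hz _ hs)]
  ring

/-- The basic inequality between `β`'s, with its case of equality. -/
theorem Modification.beta_le [AlgebraicGeometry.IsReduced X] (hX : CurveLike k X) {M GY : X.Modules}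
    (hM : TFOne.IsTF1 X M) {pY : M ⟶ GY} {Y : Set X} (hY : IsClosed Y) (hYg : GenClosed Y)
    (hGY : TFOne.IsQuotOn X M Y GY pY) {M' : X.Modules} (m : Modification pY M') {E : X.Modules} {r : ℕ}
    (hr : 0 < r) (hE : FlatMod.IsFinLocFreeOfRank r E) {Z W : Set X} (hZ : IsClosed Z) (hZg : GenClosed Z)
    (hWc : IsClosed W) (hW : W = ⋃₀ {C | C ∈ irreducibleComponents (X : Type u) ∧ C ⊆ Y ∩ Z})
    {G GW GU : X.Modules} {π : M' ⟶ G} {pW : M ⟶ GW} {pU : M ⟶ GU} (hG : TFOne.IsQuotOn X M' Z G π)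
    (hGW : TFOne.IsQuotOn X M W GW pW) (hGU : TFOne.IsQuotOn X M (Y ∪ Z) GU pU) :
    beta k E r W hWc GW + beta k E r (Y ∪ Z) (hY.union hZ) GU ≤ beta k E r Z hZ G + beta k E r Y hY GY ∧
      (beta k E r W hWc GW + beta k E r (Y ∪ Z) (hY.union hZ) GU = beta k E r Z hZ G + beta k E r Y hY GY ↔
        Curv2.euler k X GW + Curv2.euler k X GU = Curv2.euler k X G + Curv2.euler k X GY) := by
  obtain ⟨heY, hcY, htY, hsY⟩ := hGY
  obtain ⟨he, hcG, htG, hsG⟩ := hG
  obtain ⟨heW, hcW, htW, hsW⟩ := hGW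
  obtain ⟨heU, hcU, htU, hsU⟩ := hGU
  haveI := heY; haveI := he; haveI := heW; haveI := heU
  have hdel := delta_add (k := k) hX hE Y Z (Y ∪ Z) W hY hZ (hY.union hZ) hWc hYg hZg
    (by rw [hW]; exact genClosed_sUnion _ fun C hC => hC.1) (fun _ _ => Iff.rfl)
    (fun η hη => mem_meet_iff hY hZ hW hη)
  obtain ⟨h1, -, -⟩ := m.euler_quot hX hM hcY htY pW pU π hcW htW hcU htU hcG htG
    (fun η _ => by rw [hsY, hsG, hsU]; exact Iff.rfl)
    (fun η hη => by rw [hsY, hsG, hsW]; exact mem_meet_iff hY hZ hW hη)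
  have hr' : (0 : ℤ) < r := by exact_mod_cast hr
  have h2 := mul_le_mul_of_nonneg_left h1 hr'.le
  simp only [beta]
  refine ⟨by linarith, ⟨fun h => mul_left_cancel₀ hr'.ne' (by linarith), fun h => ?_⟩⟩
  have h3 : (r : ℤ) * (Curv2.euler k X GW + Curv2.euler k X GU) = (r : ℤ) * (Curv2.euler k X G + Curv2.euler k X GY) := by
    rw [h]
  linarith

/-- The quotient of a modification on the other components. -/
theorem Modification.euler_compl [AlgebraicGeometry.IsReduced X] (hX : CurveLike k X) {M GY : X.Modules}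
    (hM : TFOne.IsTF1 X M) {pY : M ⟶ GY} {Y : Set X} (hGY : TFOne.IsQuotOn X M Y GY pY)
    {M' : X.Modules} (m : Modification pY M') {G2 : X.Modules} {π2 : M' ⟶ G2} [Epi π2] (hc : Coh.IsCoh G2)
    (ht : TorSh.IsTorsionFree G2) {GW : X.Modules} (pW : M ⟶ GW) [Epi pW] (hcW : Coh.IsCoh GW)
    (htW : TorSh.IsTorsionFree GW)
    (hU : ∀ η ∈ genericPoints (X : Type u), η ∈ Y ∨ η ∈ CohB1.support G2)
    (hW : ∀ η ∈ genericPoints (X : Type u), (η ∈ CohB1.support GW ↔ η ∈ Y ∧ η ∈ CohB1.support G2)) :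
    Curv2.euler k X GW + Curv2.euler k X M = Curv2.euler k X G2 + Curv2.euler k X GY := by
  obtain ⟨heY, hcY, htY, hsY⟩ := hGY
  haveI := heY
  obtain ⟨-, h, -⟩ := m.euler_quot hX hM hcY htY pW (𝟙 M) π2 hcW htW hM.1 hM.2.1 hc ht
    (fun η hη => by rw [hsY]; exact ⟨fun _ => hU η hη, fun _ => mem_support_of_rkOne hM.2.2 hη⟩)
    (fun η hη => by rw [hsY]; exact hW η hη)
  exact h inferInstance

set_option maxHeartbeats 1600000 in
/-- The modification splits exactly when the quotient on `Y` is `GY`. -/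
theorem Modification.isIso_lift_iff [AlgebraicGeometry.IsReduced X] (hX : CurveLike k X) {M GY : X.Modules}
    (hM : TFOne.IsTF1 X M) {pY : M ⟶ GY} {Y : Set X} (hY : IsClosed Y) (hGY : TFOne.IsQuotOn X M Y GY pY)
    {M' : X.Modules} (m : Modification pY M') (hM' : Coh.IsCoh M') {Y' : Set X}
    (hY' : Y' = ⋃₀ {C | C ∈ irreducibleComponents (X : Type u) ∧ ¬ C ⊆ Y}) {G1 G2 : X.Modules} {π1 : M' ⟶ G1}
    {π2 : M' ⟶ G2} (hG1 : TFOne.IsQuotOn X M' Y G1 π1) (hG2 : TFOne.IsQuotOn X M' Y' G2 π2) :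
    IsIso (biprod.lift π1 π2) ↔ Curv2.euler k X G1 = Curv2.euler k X GY := by
  classical
  haveI := hX.noetherian
  haveI := hX.separated
  obtain ⟨he1, hc1, ht1, hs1⟩ := hG1
  obtain ⟨he2, hc2, ht2, hs2⟩ := hG2
  haveI := he1; haveI := he2
  obtain ⟨G0, p0, hep0, hc0, ht0, hs0⟩ := exists_isQuotOn hM ∅ isClosed_empty (fun x h => h.elim)
  haveI := hep0
  have e0 : Curv2.euler k X G0 = 0 := euler_eq_zero hX hc0 fun x => not_not.mp fun h => by
    have : x ∈ CohB1.support G0 := h
    rw [hs0] at this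
    exact this
  have hcompl : ∀ η ∈ genericPoints (X : Type u), (η ∈ Y' ↔ η ∉ Y) := fun η hη => mem_compl_iff hY hY' hη
  have e2 := m.euler_compl hX hM hGY (π2 := π2) hc2 ht2 p0 hc0 ht0
    (fun η hη => by rw [hs2]; exact (Classical.em (η ∈ Y)).imp id (hcompl η hη).mpr)
    (fun η hη => by
      rw [hs2, hs0]
      exact ⟨fun h => h.elim, fun h => (hcompl η hη).mp h.2 h.1⟩)
  haveI := hGY.1
  have hcN : Coh.IsCoh (kernel pY) := CurveCoh17.isCoh_kernel hM.1 hGY.2.1.1 pY
  have eM' : Curv2.euler k X M' = Curv2.euler k X GY + Curv2.euler k X (kernel pY) :=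
    euler_add (k := k) (S := ShortComplex.mk m.α m.β m.w) m.sh (hX.adm hGY.2.1) (hX.adm hcN)
  have eM := euler_kernel hX pY hM.1 hGY.2.1
  let φ := biprod.lift π1 π2
  have hP := M1.isCoh_biprod hc1 hc2
  have eP := euler_biprod (k := k) hX hc1 hc2
  constructor
  · intro h
    haveI := h
    have := euler_iso (k := k) (asIso φ)
    omega
  · intro h
    have hM'1 : TFOne.IsRkOne X M' := m.rkOne hM.2.2
    have hM't : TorSh.IsTorsionFree M' := m.torsionFree hM.2.1 hGY.2.2.1
    have hinj : ∀ η ∈ genericPoints (X : Type u), Function.Injective (stalkLin φ η) := by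
      intro η hη
      refine (injective_iff_map_eq_zero _).mpr fun b hb => ?_
      by_cases hy : η ∈ Y
      · refine injective_at_generic hM'1 π1 hη (hs1.symm ▸ hy) (Eq.trans ?_ (map_zero _).symm)
        have h1 : stalkLin (φ ≫ biprod.fst) η b = 0 := by
          rw [stalkLin_comp]; exact (congrArg _ hb).trans (map_zero _)
        rwa [biprod.lift_fst] at h1
      · refine injective_at_generic hM'1 π2 hη (hs2.symm ▸ (hcompl η hη).mpr hy) (Eq.trans ?_ (map_zero _).symm)
        have h1 : stalkLin (φ ≫ biprod.snd) η b = 0 := by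
          rw [stalkLin_comp]; exact (congrArg _ hb).trans (map_zero _)
        rwa [biprod.lift_snd] at h1
    have hsurj : ∀ η ∈ genericPoints (X : Type u), Function.Surjective (stalkLin φ η) := by
      intro η hη z
      have hz : ∀ w, stalkLin (biprod.fst : G1 ⊞ G2 ⟶ G1) η w = stalkLin (biprod.fst : G1 ⊞ G2 ⟶ G1) η z →
          stalkLin (biprod.snd : G1 ⊞ G2 ⟶ G2) η w = stalkLin (biprod.snd : G1 ⊞ G2 ⟶ G2) η z → w = z := by
        intro w hw1 hw2
        rw [← isIso_stalk_id (F := G1 ⊞ G2) η w, ← isIso_stalk_id (F := G1 ⊞ G2) η z, ← biprod.total,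
          stalkLin_add, stalkLin_add, stalkLin_comp, stalkLin_comp, stalkLin_comp, stalkLin_comp, hw1, hw2]
      by_cases hy : η ∈ Y
      · obtain ⟨b, hb⟩ := surjective_stalkLin π1 η (stalkLin (biprod.fst : G1 ⊞ G2 ⟶ G1) η z)
        haveI := subsingleton_of_not_mem_support (F := G2) (x := η) (hs2.symm ▸ fun h' => (hcompl η hη).mp h' hy)
        exact ⟨b, hz _ (by rw [← stalkLin_comp, biprod.lift_fst, hb]) (Subsingleton.elim _ _)⟩
      · obtain ⟨b, hb⟩ := surjective_stalkLin π2 η (stalkLin (biprod.snd : G1 ⊞ G2 ⟶ G2) η z)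
        haveI := subsingleton_of_not_mem_support (F := G1) (x := η) (hs1.symm ▸ hy)
        exact ⟨b, hz _ (Subsingleton.elim _ _) (by rw [← stalkLin_comp, biprod.lift_snd, hb])⟩
    have hK := CurveCoh17.isCoh_kernel hM' hP.1 φ
    have hC := M1.isCoh_cokernel hM'.1 hP φ
    obtain ⟨S₁, hS₁⟩ := exists_suppIn_of_maximal hX.dim hK fun g hg =>
      eq_zero_stalk_kernel φ g (hinj g (mem_genericPoints.mpr hg))
    obtain ⟨S₂, hS₂⟩ := exists_suppIn_of_maximal hX.dim hC fun g hg =>
      eq_zero_stalk_cokernel φ g (hsurj g (mem_genericPoints.mpr hg))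
    haveI : Mono φ := by
      have h0 : kernel.ι φ = 0 := hom_eq_zero hM' hM't _ fun η hη a => by
        rw [eq_zero_stalk_kernel φ η (hinj η hη) a, map_zero]
      exact Preadditive.mono_of_kernel_zero h0
    have hcl : ∀ x ∈ S₁ ∪ S₂, IsClosed ({x} : Set X) := fun x hx =>
      (Finset.mem_union.mp hx).elim (hS₁.closed x) (hS₂.closed x)
    have hS := hS₂.mono Finset.subset_union_right hcl
    obtain ⟨-, hfin, e1⟩ := euler_sub (k := k) φ (hX.adm hM') (hX.adm hP)
      (hS₁.mono Finset.subset_union_left hcl) hS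
    have hk0 : Curv2.euler k X (kernel φ) = 0 := euler_eq_zero hX hK fun x =>
      ⟨fun a b => (eq_zero_stalk_kernel φ x (injective_stalkLin φ x) a).trans
        (eq_zero_stalk_kernel φ x (injective_stalkLin φ x) b).symm⟩
    rw [(hS₁.mono Finset.subset_union_left hcl).euler_eq (hX.fin _ hK 0)] at hk0
    have hc : Module.finrank k (Coh.HH X (cokernel φ) 0) = 0 := by omega
    haveI := hfin
    haveI : Subsingleton (Coh.HH X (cokernel φ) 0) := Module.finrank_zero_iff.mp hc
    haveI : Subsingleton (∀ x : ↥(S₁ ∪ S₂), (cokernel φ).presheaf.stalk (x : X)) :=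
      (hS.h0Equiv k).symm.toEquiv.subsingleton
    haveI : Epi φ := by
      rw [epi_iff_stalk]
      intro x b
      have hq : stalkLin (cokernel.π φ) x b = 0 := by
        by_cases hx : x ∈ S₁ ∪ S₂
        · let v : ∀ x : ↥(S₁ ∪ S₂), (cokernel φ).presheaf.stalk (x : X) := Function.update 0 ⟨x, hx⟩
            (stalkLin (cokernel.π φ) x b)
          have h0 := congrFun (Subsingleton.elim v 0) ⟨x, hx⟩
          simpa only [v, Function.update_self, Pi.zero_apply] using h0
        · exact hS.zero x hx _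
      exact exact_stalk (w := cokernel.condition φ)
        (ShortComplex.exact_of_g_is_cokernel _ (cokernelIsCokernel φ)) x b hq
    exact isIso_of_mono_of_epi φ

end Groth.Agent.TFOne27
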