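import Groth.Agent.Lib.TFOne27.Modif
import Groth.Agent.Lib.RegImm26.Noeth
import Groth.Agent.Lib.TensorMod.PullStalk
import Groth.Agent.Lib.FormalH7.Nbhd
import Groth.Prelude.Def_FlatMod2
import Mathlib.RingTheory.Flat.TorsionFree
import Mathlib.RingTheory.DiscreteValuationRing.Basic

/-!
# The restriction to the special fibre of an elementary modification
-/

set_option autoImplicit false
set_option linter.style.haveILetI false

universe u

open CategoryTheory CategoryTheory.Limits AlgebraicGeometry TopologicalSpace Opposite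
open scoped TensorProduct

namespace Groth.Agent.TFOne27

open Groth.Agent.M1 Groth.Agent.M2 Groth.Agent.CurveCoh17

variable {X Xs : Scheme.{u}}

section closed

variable (i : Xs ⟶ X) [IsPreimmersion i]

theorem stalkPush_natural {N P : Xs.Modules} (φ : N ⟶ P) (z : Xs)
    (a : ((Scheme.Modules.pushforward i).obj N).presheaf.stalk (i z)) :
    TopCat.Presheaf.stalkPushforward AddCommGrpCat.{u} i.base P.presheaf z
        ((stalkAb (i z)).map ((Scheme.Modules.pushforward i).map φ) a) =
      (stalkAb z).map φ (TopCat.Presheaf.stalkPushforward AddCommGrpCat.{u} i.base N.presheaf z a) := by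
  obtain ⟨U, hU, s, rfl⟩ := ((Scheme.Modules.pushforward i).obj N).presheaf.germ_exist a
  rw [germ_naturality ((Scheme.Modules.pushforward i).map φ) U (i z) hU s]
  refine (ConcreteCategory.congr_hom
    (TopCat.Presheaf.stalkPushforward_germ AddCommGrpCat.{u} i.base P.presheaf U z hU) _).trans ?_
  refine Eq.trans ?_ (congrArg ((stalkAb z).map φ) (ConcreteCategory.congr_hom
    (TopCat.Presheaf.stalkPushforward_germ AddCommGrpCat.{u} i.base N.presheaf U z hU) s)).symm
  exact (germ_naturality φ (i ⁻¹ᵁ U) z hU s).symm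

theorem stalkUnit_natural {F G : X.Modules} (φ : F ⟶ G) (z : Xs) (a : F.presheaf.stalk (i z)) :
    stalkLin ((Scheme.Modules.pullback i).map φ) z (stalkUnit i z F a) = stalkUnit i z G (stalkLin φ (i z) a) := by
  obtain ⟨U, hU, s, rfl⟩ := F.presheaf.germ_exist a
  show (stalkAb z).map ((Scheme.Modules.pullback i).map φ) (stalkUnitHom i z F (F.presheaf.germ U (i z) hU s)) =
    stalkUnitHom i z G ((stalkAb (i z)).map φ (F.presheaf.germ U (i z) hU s))
  rw [germ_naturality φ U (i z) hU s, stalkUnitHom_germ, stalkUnitHom_germ]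
  refine (germ_naturality ((Scheme.Modules.pullback i).map φ) (i ⁻¹ᵁ U) z hU _).trans ?_
  rw [FormalH7.pullSec_naturality]

theorem surjective_stalkUnit (M : X.Modules) (z : Xs) : Function.Surjective (stalkUnit i z M) := fun b => by
  obtain ⟨t, rfl⟩ := (pullStalkEquiv i z M).surjective b
  induction t using TensorProduct.induction_on with
  | zero => exact ⟨0, (map_zero _).trans (map_zero (pullStalkEquiv i z M)).symm⟩
  | tmul c m =>
    obtain ⟨c', rfl⟩ := i.stalkMap_surjective z c
    refine ⟨c' • m, ?_⟩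
    exact ((LinearMap.liftBaseChange_tmul _ (stalkUnit i z M) _ m).trans
      ((algebraMap_smul (Xs.presheaf.stalk z) c' (stalkUnit i z M m)).trans (map_smul _ c' m).symm)).symm
  | add x y hx hy =>
    obtain ⟨a, ha⟩ := hx
    obtain ⟨b, hb⟩ := hy
    exact ⟨a + b, by rw [map_add, map_add, ha, hb]⟩

theorem stalkUnit_eq_zero (M : X.Modules) (z : Xs) (a : M.presheaf.stalk (i z)) :
    stalkUnit i z M a = 0 ↔
      a ∈ (RingHom.ker (i.stalkMap z).hom) • (⊤ : Submodule (X.presheaf.stalk (i z)) (M.presheaf.stalk (i z))) := by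
  let B := X.presheaf.stalk (i z)
  let J : Ideal B := RingHom.ker (i.stalkMap z).hom
  let q : (B ⧸ J) ≃ₐ[B] (Xs.presheaf.stalk z : Type u) :=
    Ideal.quotientKerAlgEquivOfSurjective (f := Algebra.ofId B (Xs.presheaf.stalk z : Type u))
      (i.stalkMap_surjective z)
  let e₁ : (M.presheaf.stalk (i z) ⧸ (J • ⊤ : Submodule B (M.presheaf.stalk (i z)))) ≃ₗ[B]
      (Xs.presheaf.stalk z : Type u) ⊗[B] M.presheaf.stalk (i z) :=
    (TensorProduct.quotTensorEquivQuotSMul (M.presheaf.stalk (i z)) J).symm ≪≫ₗ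
      TensorProduct.congr q.toLinearEquiv (LinearEquiv.refl B (M.presheaf.stalk (i z)))
  have h : e₁ (Submodule.Quotient.mk a) = (1 : (Xs.presheaf.stalk z : Type u)) ⊗ₜ a := by
    show TensorProduct.congr q.toLinearEquiv (LinearEquiv.refl B _)
      ((TensorProduct.quotTensorEquivQuotSMul _ J).symm (Submodule.Quotient.mk a)) = _
    rw [TensorProduct.quotTensorEquivQuotSMul_symm_mk, TensorProduct.congr_tmul]
    show q 1 ⊗ₜ a = _
    rw [map_one]
  rw [← (show pullStalkEquiv i z M ((1 : (Xs.presheaf.stalk z : Type u)) ⊗ₜ a) = stalkUnit i z M a from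
    LinearMap.liftBaseChange_one_tmul _ _ _), LinearEquiv.map_eq_zero_iff, ← h, LinearEquiv.map_eq_zero_iff,
    Submodule.Quotient.mk_eq_zero]

theorem stalkUnit_smul (M : X.Modules) (z : Xs) (r : X.presheaf.stalk (i z)) (a : M.presheaf.stalk (i z)) :
    stalkUnit i z M (r • a) = i.stalkMap z r • stalkUnit i z M a :=
  map_smul (stalkUnit i z M) r a

end closed

section dvr

variable {R : Type u} [CommRing R] (f : X ⟶ Spec (CommRingCat.of R))

/-- The function on `X` given by an element of the base. -/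
noncomputable def elt (t : R) : Γ(X, ⊤) := f.appTop ((Scheme.ΓSpecIso (CommRingCat.of R)).inv t)

/-- Its germ. -/
noncomputable def eltAt (t : R) (x : X) : X.presheaf.stalk x := X.presheaf.germ ⊤ x trivial (elt f t)

variable [IsDomain R] [IsDiscreteValuationRing R] {f}
  [Xs.Over (Spec (CommRingCat.of (IsLocalRing.ResidueField R)))] {i : Xs ⟶ X}
  (hsq : IsPullback i (Xs ↘ Spec (CommRingCat.of (IsLocalRing.ResidueField R))) f
    (Spec.map (CommRingCat.ofHom (IsLocalRing.residue R))))

include hsq in
theorem isClosedImmersion_special : IsClosedImmersion i :=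
  MorphismProperty.of_isPullback hsq.flip
    (IsClosedImmersion.spec_of_surjective _ IsLocalRing.residue_surjective)

include hsq in
theorem ker_stalkMap_special [IsClosedImmersion i] {t : R} (ht : IsLocalRing.maximalIdeal R = Ideal.span {t})
    (z : Xs) : RingHom.ker (i.stalkMap z).hom = Ideal.span {eltAt f t (i z)} := by
  obtain ⟨O, hO, hzO, -⟩ := exists_isAffineOpen_mem_and_subset (X := X) (x := i z) (U := ⊤) trivial
  let τ : R →+* Γ(X, O) := (f.appLE ⊤ O le_top).hom.comp (Scheme.ΓSpecIso (CommRingCat.of R)).inv.hom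
  let aO : Γ(X, O) := τ t
  have haO : aO = X.presheaf.map (homOfLE (le_top : O ≤ ⊤)).op (elt f t) := rfl
  have hres : IsLocalRing.residue R t = 0 :=
    (IsLocalRing.residue_eq_zero_iff t).mpr (ht ▸ Ideal.mem_span_singleton_self t)
  suffices h : RingHom.ker (i.app O).hom = Ideal.span {aO} by
    rw [RegImm26.ker_stalkMap_eq i z hO hzO, h, Ideal.map_span, Set.image_singleton]
    congr 2
    exact X.presheaf.germ_res_apply (homOfLE le_top) (i z) hzO _
  apply le_antisymm
  · intro x hx
    rw [RingHom.mem_ker] at hx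
    let mk := CommRingCat.ofHom (Ideal.Quotient.mk (Ideal.span {aO}))
    let bar : CommRingCat.of (IsLocalRing.ResidueField R) ⟶ CommRingCat.of (Γ(X, O) ⧸ Ideal.span {aO}) :=
      CommRingCat.ofHom (Ideal.Quotient.lift (IsLocalRing.maximalIdeal R) (mk.hom.comp τ) fun a ha => by
        rw [ht, Ideal.mem_span_singleton] at ha
        obtain ⟨c, rfl⟩ := ha
        show Ideal.Quotient.mk _ (τ (t * c)) = 0
        rw [map_mul, Ideal.Quotient.eq_zero_iff_mem]
        exact Ideal.mul_mem_right _ _ (Ideal.mem_span_singleton_self _))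
    let j := Spec.map mk ≫ hO.fromSpec
    have hj : j ≫ f = Spec.map bar ≫ Spec.map (CommRingCat.ofHom (IsLocalRing.residue R)) := by
      rw [Category.assoc, ← IsAffineOpen.SpecMap_appLE_fromSpec f (isAffineOpen_top _) hO le_top,
        IsAffineOpen.fromSpec_top, Scheme.isoSpec_Spec_inv, ← Spec.map_comp, ← Spec.map_comp, ← Spec.map_comp]
      rfl
    let l := hsq.lift j (Spec.map bar) hj
    have hl : l ≫ i = j := hsq.lift_fst _ _ _
    have hjO : (⊤ : (Spec (CommRingCat.of (Γ(X, O) ⧸ Ideal.span {aO}))).Opens) ≤ j ⁻¹ᵁ O := by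
      rw [Scheme.Hom.comp_preimage, hO.fromSpec_preimage_self, Scheme.Hom.preimage_top]
    have h1 : (l ≫ i).appLE O ⊤ (by rw [hl]; exact hjO) x = 0 := by
      rw [Scheme.Hom.comp_appLE, CommRingCat.comp_apply,
        show (i.app O).hom x = 0 from hx, map_zero]
    simp only [hl] at h1
    have h2 : j.appLE O ⊤ hjO = mk ≫ (Scheme.ΓSpecIso _).inv := by
      rw [Scheme.Hom.comp_appLE, hO.fromSpec_app_self, Category.assoc, Scheme.Hom.map_appLE,
        Scheme.ΓSpecIso_inv_naturality]
      rfl
    rw [h2, CommRingCat.comp_apply] at h1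
    have h3 : mk.hom x = 0 := (Scheme.ΓSpecIso _).symm.commRingCatIsoToRingEquiv.injective
      (h1.trans (map_zero _).symm)
    exact Ideal.Quotient.eq_zero_iff_mem.1 h3
  · rw [Ideal.span_singleton_le_iff_mem, RingHom.mem_ker, haO]
    show i.app O (X.presheaf.map (homOfLE (le_top : O ≤ ⊤)).op (elt f t)) = 0
    have e : i.appTop (elt f t) = 0 := by
      show (f.appTop ≫ i.appTop) ((Scheme.ΓSpecIso (CommRingCat.of R)).inv t) = 0
      rw [← Scheme.Hom.comp_appTop, hsq.w, Scheme.Hom.comp_appTop, CommRingCat.comp_apply,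
        ← CommRingCat.comp_apply (Scheme.ΓSpecIso _).inv, ← Scheme.ΓSpecIso_inv_naturality, CommRingCat.comp_apply]
      show (Xs ↘ Spec (CommRingCat.of (IsLocalRing.ResidueField R))).appTop
        ((Scheme.ΓSpecIso (CommRingCat.of (IsLocalRing.ResidueField R))).inv (IsLocalRing.residue R t)) = 0
      rw [hres, map_zero, map_zero]
    rw [← CommRingCat.comp_apply (X.presheaf.map _), i.naturality, CommRingCat.comp_apply]
    rw [show i.app ⊤ (elt f t) = 0 from e, map_zero]

/-- On a flat module a nonzero element of the base is a non-zero-divisor. -/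
theorem isSMulRegular_eltAt {t : R} (ht : t ≠ 0) {I : X.Modules} (hI : FlatMod.IsFlatOver f I) (x : X) :
    IsSMulRegular (I.presheaf.stalk x) (eltAt f t x) := by
  letI := FlatMod.moduleStalkOver f I x
  haveI : Module.Flat ((Spec (CommRingCat.of R)).presheaf.stalk (f x)) (I.presheaf.stalk x) := hI x
  let t' : (Spec (CommRingCat.of R)).presheaf.stalk (f x) :=
    (Spec (CommRingCat.of R)).presheaf.germ ⊤ (f x) trivial ((Scheme.ΓSpecIso (CommRingCat.of R)).inv t)
  have e : eltAt f t x = f.stalkMap x t' :=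
    (Scheme.Hom.germ_stalkMap_apply f ⊤ x trivial _).symm
  have hne : t' ≠ 0 := fun h0 => ht <| by
    have h1 := germ_injective_of_isIntegral (Spec (CommRingCat.of R)) (f x) (U := ⊤) trivial
      (h0.trans (map_zero _).symm)
    exact (Scheme.ΓSpecIso (CommRingCat.of R)).symm.commRingCatIsoToRingEquiv.injective (h1.trans (map_zero _).symm)
  intro a b hab
  haveI : IsDomain ((Spec (CommRingCat.of R)).presheaf.stalk (f x)) := inferInstance
  refine (Module.IsTorsionFree.isSMulRegular (M := I.presheaf.stalk x)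
    (isRegular_iff_mem_nonZeroDivisors.2 (mem_nonZeroDivisors_of_ne_zero hne))) ?_
  show f.stalkMap x t' • a = f.stalkMap x t' • b
  rw [← e]
  exact hab

theorem stalk_smulModΓ (M : X.Modules) (r : Γ(X, ⊤)) (x : X) (a : M.presheaf.stalk x) :
    stalkLin (Formal.smulModΓ M r) x a = X.presheaf.germ ⊤ x trivial r • a := by
  obtain ⟨U, hU, s, rfl⟩ := M.presheaf.exists_germ_eq a
  rw [stalkLin_apply, germ_naturality, KLin.smulModΓ_app_apply, germ_smul]
  congr 1
  exact X.presheaf.germ_res_apply (homOfLE (le_top : U ≤ ⊤)) x hU _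

theorem hom_eq_zero_stalks {F G : X.Modules} (φ : F ⟶ G) (h : ∀ x a, stalkLin φ x a = 0) : φ = 0 := by
  refine Scheme.Modules.hom_ext _ _ fun U => ?_
  ext s
  refine M1.section_ext _ _ fun y hy => ?_
  rw [← germ_naturality]
  refine (h y _).trans ?_
  exact (map_zero _).symm

set_option maxHeartbeats 1600000 in
include hsq in
/-- The restriction of the kernel of `I → i_* GY` is a modification of the restriction of `I`. -/
theorem nonempty_modification [IsClosedImmersion i] {I : X.Modules} (hI : FlatMod.IsFlatOver f I)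
    {GY : Xs.Modules} (πY : (Scheme.Modules.pullback i).obj I ⟶ GY) [Epi πY] :
    Nonempty (Modification πY ((Scheme.Modules.pullback i).obj
      (kernel ((Scheme.Modules.pullbackPushforwardAdjunction i).unit.app I ≫
        (Scheme.Modules.pushforward i).map πY)))) := by
  obtain ⟨t, ht⟩ := IsDiscreteValuationRing.exists_irreducible R
  have htm : IsLocalRing.maximalIdeal R = Ideal.span {t} := ht.maximalIdeal_eq
  let q : I ⟶ (Scheme.Modules.pushforward i).obj GY :=
    (Scheme.Modules.pullbackPushforwardAdjunction i).unit.app I ≫ (Scheme.Modules.pushforward i).map πY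
  let Ps := (Scheme.Modules.pullback i)
  let ι : kernel q ⟶ I := kernel.ι q
  let g : ∀ x : X, X.presheaf.stalk x := eltAt f t
  have hker := ker_stalkMap_special hsq htm
  have hg0 : ∀ z, i.stalkMap z (g (i z)) = 0 := fun z => by
    have : g (i z) ∈ RingHom.ker (i.stalkMap z).hom := by
      rw [hker z]; exact Ideal.mem_span_singleton_self _
    exact this
  have hreg : ∀ x, IsSMulRegular (I.presheaf.stalk x) (g x) := isSMulRegular_eltAt ht.ne_zero hI
  have hzero : ∀ (M : X.Modules) (z : Xs) a, stalkUnit i z M a = 0 ↔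
      ∃ b, a = g (i z) • b := fun M z a => by
    rw [stalkUnit_eq_zero, hker z, Submodule.ideal_span_singleton_smul,
      Submodule.mem_smul_pointwise_iff_exists]
    exact ⟨fun ⟨b, _, hb⟩ => ⟨b, hb.symm⟩, fun ⟨b, hb⟩ => ⟨b, Submodule.mem_top, hb.symm⟩⟩
  -- the kernel of `q` at the points of the special fibre
  have hq : ∀ (z : Xs) (a : I.presheaf.stalk (i z)),
      stalkLin q (i z) a = 0 ↔ stalkLin πY z (stalkUnit i z I a) = 0 := by
    intro z a
    have hb : Function.Bijective (TopCat.Presheaf.stalkPushforward AddCommGrpCat.{u} i.base GY.presheaf z) := by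
      have := TopCat.Presheaf.stalkPushforward.stalkPushforward_iso_of_isInducing (C := AddCommGrpCat.{u})
        (f := i.base) i.isClosedEmbedding.isInducing GY.presheaf z
      exact ConcreteCategory.bijective_of_isIso _
    have e : TopCat.Presheaf.stalkPushforward AddCommGrpCat.{u} i.base GY.presheaf z (stalkLin q (i z) a) =
        stalkLin πY z (stalkUnit i z I a) := by
      rw [stalkLin_comp]
      exact stalkPush_natural i πY z _
    rw [← e]
    exact ⟨fun h => by rw [h]; exact map_zero _, fun h => hb.1 (h.trans (map_zero _).symm)⟩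
  have hsm : Formal.smulModΓ I (elt f t) ≫ q = 0 := by
    refine hom_eq_zero_stalks _ fun x a => ?_
    by_cases hx : x ∈ Set.range i
    · obtain ⟨z, rfl⟩ := hx
      rw [stalkLin_comp, stalk_smulModΓ, hq, stalkUnit_smul]
      show stalkLin πY z (i.stalkMap z (g (i z)) • _) = 0
      rw [hg0, zero_smul, map_zero]
    · exact eq_zero_stalk_push i GY hx _
  let h0 : I ⟶ kernel q := kernel.lift q (Formal.smulModΓ I (elt f t)) hsm
  have hh0 : ∀ x a, stalkLin ι x (stalkLin h0 x a) = g x • a := fun x a => by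
    rw [← stalkLin_comp, show h0 ≫ ι = _ from kernel.lift_ι _ _ _, stalk_smulModΓ]
    rfl
  have hιinj : ∀ x, Function.Injective (stalkLin ι x) := fun x => injective_stalkLin ι x
  -- membership in the kernel
  have hmem : ∀ (z : Xs) (a : I.presheaf.stalk (i z)), stalkLin πY z (stalkUnit i z I a) = 0 →
      ∃ b, stalkLin ι (i z) b = a := fun z a h => exact_kernel_stalk q (i z) a ((hq z a).mpr h)
  let fs := Ps.map ι
  let hs := Ps.map h0
  have hfs : fs ≫ πY = 0 := by
    refine hom_eq_zero_stalks _ fun z w => ?_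
    obtain ⟨b, rfl⟩ := surjective_stalkUnit i (kernel q) z w
    rw [stalkLin_comp, stalkUnit_natural, ← hq, ← stalkLin_comp, kernel.condition, stalkLin_zero]
  have hexK : ∀ (z : Xs) w, stalkLin πY z w = 0 → ∃ v, stalkLin fs z v = w := by
    intro z w hw
    obtain ⟨a, rfl⟩ := surjective_stalkUnit i I z w
    obtain ⟨b, rfl⟩ := hmem z a hw
    exact ⟨stalkUnit i z (kernel q) b, stalkUnit_natural i ι z b⟩
  have hk : kernel.ι πY ≫ hs = 0 := by
    refine hom_eq_zero_stalks _ fun z w => ?_
    obtain ⟨v, hv⟩ := hexK z (stalkLin (kernel.ι πY) z w)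
      (by rw [← stalkLin_comp, kernel.condition, stalkLin_zero])
    rw [stalkLin_comp, ← hv]
    obtain ⟨b, rfl⟩ := surjective_stalkUnit i (kernel q) z v
    rw [stalkUnit_natural, stalkUnit_natural, hzero]
    refine ⟨b, hιinj (i z) ?_⟩
    rw [hh0, map_smul]
  let α : GY ⟶ Ps.obj (kernel q) := Abelian.epiDesc πY hs hk
  have hα : πY ≫ α = hs := Abelian.comp_epiDesc πY hs hk
  let β : Ps.obj (kernel q) ⟶ kernel πY := kernel.lift πY fs hfs
  have hβ : β ≫ kernel.ι πY = fs := kernel.lift_ι _ _ _
  have hw : α ≫ β = 0 := by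
    rw [← cancel_mono (kernel.ι πY), ← cancel_epi πY, zero_comp, comp_zero, Category.assoc, hβ, ← Category.assoc, hα]
    refine hom_eq_zero_stalks _ fun z w => ?_
    obtain ⟨a, rfl⟩ := surjective_stalkUnit i I z w
    rw [stalkLin_comp, stalkUnit_natural, stalkUnit_natural, hh0, stalkUnit_smul]
    show i.stalkMap z (g (i z)) • _ = 0
    rw [hg0, zero_smul]
  haveI : Mono α := by
    rw [mono_iff_stalk]
    intro z
    refine (injective_iff_map_eq_zero _).mpr fun w hw' => ?_
    obtain ⟨v, rfl⟩ := surjective_stalkLin πY z w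
    obtain ⟨a, rfl⟩ := surjective_stalkUnit i I z v
    have h1 : stalkLin (πY ≫ α) z (stalkUnit i z I a) = 0 := by rw [stalkLin_comp]; exact hw'
    rw [hα, stalkUnit_natural, hzero] at h1
    obtain ⟨b, hb⟩ := h1
    have h2 : g (i z) • a = g (i z) • stalkLin ι (i z) b := by rw [← hh0, hb, map_smul]
    show stalkLin πY z (stalkUnit i z I a) = 0
    rw [hreg (i z) h2, ← stalkUnit_natural, ← stalkLin_comp, hfs, stalkLin_zero]
  haveI : Epi β := by
    rw [epi_iff_stalk]
    intro z w
    obtain ⟨v, hv⟩ := hexK z (stalkLin (kernel.ι πY) z w) (by rw [← stalkLin_comp, kernel.condition, stalkLin_zero])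
    refine ⟨v, injective_stalkLin (kernel.ι πY) z ?_⟩
    show stalkLin (kernel.ι πY) z (stalkLin β z v) = _
    rw [← stalkLin_comp, hβ, hv]
  have hex : (ShortComplex.mk α β hw).Exact := by
    rw [exact_iff_stalk_eq_zero]
    intro z v hv
    obtain ⟨b, rfl⟩ := surjective_stalkUnit i (kernel q) z v
    have h1 : stalkLin fs z (stalkUnit i z (kernel q) b) = 0 := by
      rw [← hβ, stalkLin_comp]
      exact (congrArg (stalkLin (kernel.ι πY) z) hv).trans (map_zero _)
    rw [stalkUnit_natural, hzero] at h1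
    obtain ⟨a, ha⟩ := h1
    have hb : b = stalkLin h0 (i z) a := hιinj (i z) (ha.trans (hh0 (i z) a).symm)
    refine ⟨stalkLin πY z (stalkUnit i z I a), ?_⟩
    show stalkLin α z _ = _
    rw [← stalkLin_comp, hα, stalkUnit_natural, ← hb]
  exact ⟨⟨α, β, hw, { exact := hex }⟩⟩

end dvr

end Groth.Agent.TFOne27
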