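import Groth.Agent.Lib.TFOne27.Euler
import Groth.Agent.Lib.TFOne27.Split

/-!
# Torsion-free quotients of an elementary modification
-/

set_option autoImplicit false
set_option linter.style.haveILetI false

universe u

open CategoryTheory CategoryTheory.Limits AlgebraicGeometry TopologicalSpace

namespace Groth.Agent.TFOne27

open Groth.Agent.M1 Groth.Agent.M2 Groth.Agent.CurveCoh17

variable {X : Scheme.{u}}

theorem exact_stalk {A B C : X.Modules} {f : A ⟶ B} {g : B ⟶ C} {w : f ≫ g = 0}
    (h : (ShortComplex.mk f g w).Exact) (x : X) (b : B.presheaf.stalk x) (hb : stalkLin g x b = 0) :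
    ∃ a : A.presheaf.stalk x, stalkLin f x a = b :=
  M1.exact_elem h x b hb

theorem exact_kernel_stalk {B C : X.Modules} (g : B ⟶ C) (x : X) (b : B.presheaf.stalk x)
    (hb : stalkLin g x b = 0) : ∃ a : (kernel g).presheaf.stalk x, stalkLin (kernel.ι g) x a = b :=
  exact_stalk (w := kernel.condition g) (ShortComplex.exact_of_f_is_kernel _ (kernelIsKernel g)) x b hb

theorem tf_of_mono {F G : X.Modules} (i : F ⟶ G) [Mono i] (hG : TorSh.IsTorsionFree G) :
    TorSh.IsTorsionFree F := fun x => by
  haveI := hG x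
  exact Function.Injective.moduleIsTorsionFree (stalkLin i x) (injective_stalkLin i x) fun r a => map_smul _ r a

/-- The elementary modification `M'` of `M` along the quotient `M → GY`: an extension of the kernel by `GY`. -/
structure Modification {M GY : X.Modules} (pY : M ⟶ GY) (M' : X.Modules) where
  α : GY ⟶ M'
  β : M' ⟶ kernel pY
  w : α ≫ β = 0
  sh : (ShortComplex.mk α β w).ShortExact

theorem Modification.mono {M GY : X.Modules} {pY : M ⟶ GY} {M' : X.Modules} (m : Modification pY M') : Mono m.α :=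
  m.sh.mono_f

theorem Modification.epi {M GY : X.Modules} {pY : M ⟶ GY} {M' : X.Modules} (m : Modification pY M') : Epi m.β :=
  m.sh.epi_g

/-- A comparison of the kernel at a generic point. -/
theorem stalk_kernel_eq_zero [AlgebraicGeometry.IsReduced X] {M GY : X.Modules} (hM : TFOne.IsRkOne X M)
    (pY : M ⟶ GY) [Epi pY] {η : X} (hη : η ∈ genericPoints (X : Type u)) (h : η ∈ CohB1.support GY)
    (n : (kernel pY).presheaf.stalk η) : n = 0 :=
  eq_zero_stalk_kernel pY η (injective_at_generic hM pY hη h) n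

/-- The modification of a rank one sheaf has rank one. -/
theorem Modification.rkOne [AlgebraicGeometry.IsReduced X] {M GY : X.Modules} (hM : TFOne.IsRkOne X M)
    {pY : M ⟶ GY} [Epi pY] {M' : X.Modules} (m : Modification pY M') : TFOne.IsRkOne X M' := by
  intro η hη
  haveI := m.mono
  haveI := m.epi
  obtain ⟨e⟩ := hM η hη
  by_cases hs : η ∈ CohB1.support GY
  · have hbij : Function.Bijective (stalkLin m.α η) := ⟨injective_stalkLin m.α η, fun b => by
      obtain ⟨a, ha⟩ := exact_stalk m.sh.exact η b (stalk_kernel_eq_zero hM pY hη hs _)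
      exact ⟨a, ha⟩⟩
    exact ⟨(LinearEquiv.ofBijective _ hbij).symm.trans ((LinearEquiv.ofBijective (stalkLin pY η)
      ⟨injective_at_generic hM pY hη hs, surjective_stalkLin pY η⟩).symm.trans e)⟩
  · haveI := subsingleton_of_not_mem_support hs
    have h1 : Function.Bijective (stalkLin m.β η) := ⟨(injective_iff_map_eq_zero _).mpr fun b hb => by
      obtain ⟨a, ha⟩ := exact_stalk m.sh.exact η b hb
      rw [← ha, Subsingleton.elim a 0]
      exact map_zero _, surjective_stalkLin m.β η⟩
    have h2 : Function.Bijective (stalkLin (kernel.ι pY) η) := ⟨injective_stalkLin _ η, fun a => by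
      obtain ⟨b, hb⟩ := exact_kernel_stalk pY η a (Subsingleton.elim _ _)
      exact ⟨b, hb⟩⟩
    exact ⟨(LinearEquiv.ofBijective _ h1).trans ((LinearEquiv.ofBijective _ h2).trans e)⟩

theorem Modification.torsionFree {M GY : X.Modules} (hM : TorSh.IsTorsionFree M) (hGY : TorSh.IsTorsionFree GY)
    {pY : M ⟶ GY} {M' : X.Modules} (m : Modification pY M') : TorSh.IsTorsionFree M' := fun x => by
  haveI := m.mono
  haveI := hGY x
  haveI := tf_of_mono (kernel.ι pY) hM x
  refine ⟨fun r hr => (injective_iff_map_eq_zero (DistribSMul.toAddMonoidHom (M'.presheaf.stalk x) r)).mpr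
    fun b hb => ?_⟩
  have hb' : r • b = 0 := hb
  have h1 : stalkLin m.β x b = 0 := by
    refine hr.isSMulRegular ?_
    show r • stalkLin m.β x b = r • 0
    rw [← map_smul, hb', map_zero, smul_zero]
  obtain ⟨a, ha⟩ := exact_stalk m.sh.exact x b h1
  have ha' : stalkLin m.α x a = b := ha
  have h2 : a = 0 := by
    refine hr.isSMulRegular ?_
    show r • a = r • 0
    refine injective_stalkLin m.α x ?_
    rw [map_smul, ha', hb', smul_zero, map_zero]
  rw [← ha', h2, map_zero]

/-- Two torsion-free quotients with the same generic support are isomorphic. -/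
theorem nonempty_iso_of_quot [AlgebraicGeometry.IsReduced X] [IsLocallyNoetherian X] {M G H : X.Modules}
    (hM : TFOne.IsRkOne X M) (p : M ⟶ G) [Epi p] (q : M ⟶ H) [Epi q] (hG : Coh.IsCoh G)
    (htG : TorSh.IsTorsionFree G) (hH : Coh.IsCoh H) (htH : TorSh.IsTorsionFree H)
    (hs : ∀ η ∈ genericPoints (X : Type u), (η ∈ CohB1.support G ↔ η ∈ CohB1.support H)) :
    ∃ e : G ≅ H, p ≫ e.hom = q := by
  obtain ⟨u, hu⟩ := exists_desc hM p q hH htH fun η hη h => (hs η hη).mpr h
  obtain ⟨v, hv⟩ := exists_desc hM q p hG htG fun η hη h => (hs η hη).mp h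
  exact ⟨⟨u, v, by rw [← cancel_epi p, ← Category.assoc, hu, hv, Category.comp_id],
    by rw [← cancel_epi q, ← Category.assoc, hv, hu, Category.comp_id]⟩, hu⟩

variable {k : Type u} [Field k] [X.Over (Spec (CommRingCat.of k))]

theorem euler_sc (hX : CurveLike k X) {S : ShortComplex X.Modules} (hS : S.ShortExact) (h₁ : Coh.IsCoh S.X₁)
    (h₃ : Coh.IsCoh S.X₃) : Curv2.euler k X S.X₂ = Curv2.euler k X S.X₁ + Curv2.euler k X S.X₃ :=
  euler_add hS (hX.adm h₁) (hX.adm h₃)

theorem euler_kernel (hX : CurveLike k X) {A B : X.Modules} (g : A ⟶ B) [hg : Epi g] (hA : Coh.IsCoh A)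
    (hB : Coh.IsCoh B) : Curv2.euler k X A = Curv2.euler k X (kernel g) + Curv2.euler k X B := by
  haveI := hX.noetherian
  have hS : (ShortComplex.mk (kernel.ι g) g (kernel.condition g)).ShortExact :=
    { exact := ShortComplex.exact_of_f_is_kernel _ (kernelIsKernel g), epi_g := hg }
  have hK : Coh.IsCoh (kernel g) := CurveCoh17.isCoh_kernel hA hB.1 g
  exact euler_add (k := k) (S := ShortComplex.mk (kernel.ι g) g (kernel.condition g)) hS (hX.adm hK) (hX.adm hB)

/-- An epimorphism which is injective at the generic points does not increase the Euler characteristic. -/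
theorem euler_le_of_epi (hX : CurveLike k X) {A B : X.Modules} (g : A ⟶ B) [Epi g] (hA : Coh.IsCoh A)
    (hB : Coh.IsCoh B) (h : ∀ η ∈ genericPoints (X : Type u), Function.Injective (stalkLin g η)) :
    Curv2.euler k X B ≤ Curv2.euler k X A := by
  haveI := hX.noetherian
  have hK := CurveCoh17.isCoh_kernel hA hB.1 g
  obtain ⟨S, hS⟩ := exists_suppIn_of_maximal hX.dim hK fun z hz =>
    eq_zero_stalk_kernel g z (h z (mem_genericPoints.mpr hz))
  have h1 := euler_kernel hX g hA hB
  have h2 := hS.euler_eq (k := k) (hX.fin _ hK 0)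
  have h3 : (0 : ℤ) ≤ Module.finrank k (Coh.HH X (kernel g) 0) := Int.natCast_nonneg _
  omega

set_option maxHeartbeats 2000000 in
/-- The Euler characteristic of the quotient on `Z` of a modification along `Y`. -/
theorem Modification.euler_quot [AlgebraicGeometry.IsReduced X] (hX : CurveLike k X) {M GY : X.Modules}
    (hM : TFOne.IsTF1 X M) {pY : M ⟶ GY} [Epi pY] (hcY : Coh.IsCoh GY) (htY : TorSh.IsTorsionFree GY)
    {M' : X.Modules} (m : Modification pY M') {GW GU G : X.Modules} (pW : M ⟶ GW) [Epi pW] (pU : M ⟶ GU) [Epi pU]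
    (π : M' ⟶ G) [Epi π] (hcW : Coh.IsCoh GW) (htW : TorSh.IsTorsionFree GW) (hcU : Coh.IsCoh GU)
    (htU : TorSh.IsTorsionFree GU) (hcG : Coh.IsCoh G) (htG : TorSh.IsTorsionFree G)
    (hU : ∀ η ∈ genericPoints (X : Type u), (η ∈ CohB1.support GU ↔ η ∈ CohB1.support GY ∨ η ∈ CohB1.support G))
    (hW : ∀ η ∈ genericPoints (X : Type u), (η ∈ CohB1.support GW ↔ η ∈ CohB1.support GY ∧ η ∈ CohB1.support G)) :
    Curv2.euler k X GW + Curv2.euler k X GU ≤ Curv2.euler k X G + Curv2.euler k X GY ∧
      (Mono pU → Curv2.euler k X GW + Curv2.euler k X GU = Curv2.euler k X G + Curv2.euler k X GY) ∧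
      ∃ (K : X.Modules) (q : M' ⟶ K), Epi q ∧ Coh.IsCoh K ∧ TorSh.IsTorsionFree K ∧
        Curv2.euler k X GU = Curv2.euler k X K + Curv2.euler k X GY ∧
        ∀ η ∈ genericPoints (X : Type u),
          (η ∈ CohB1.support K ↔ η ∈ CohB1.support G ∧ η ∉ CohB1.support GY) := by
  classical
  haveI := hX.noetherian
  haveI := hX.separated
  haveI := m.mono
  haveI := m.epi
  have hM'1 : TFOne.IsRkOne X M' := m.rkOne hM.2.2
  have hcN : Coh.IsCoh (kernel pY) := CurveCoh17.isCoh_kernel hM.1 hcY.1 pY
  obtain ⟨r, hr⟩ := exists_desc hM.2.2 pU pY hcY htY fun η hη h => (hU η hη).mpr (Or.inl h)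
  haveI : Epi r := epi_of_epi_fac hr
  let K := kernel r
  have hcK : Coh.IsCoh K := CurveCoh17.isCoh_kernel hcU hcY.1 r
  have htK : TorSh.IsTorsionFree K := tf_of_mono (kernel.ι r) htU
  let e : kernel pY ⟶ K := kernel.lift r (kernel.ι pY ≫ pU) (by rw [Category.assoc, hr, kernel.condition])
  have he : e ≫ kernel.ι r = kernel.ι pY ≫ pU := kernel.lift_ι _ _ _
  haveI : Epi e := by
    rw [epi_iff_stalk]
    intro x z
    obtain ⟨a, ha⟩ := surjective_stalkLin pU x (stalkLin (kernel.ι r) x z)
    have h1 : stalkLin pY x a = 0 := by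
      rw [← hr, stalkLin_comp, ha, ← stalkLin_comp, kernel.condition, stalkLin_zero]
    obtain ⟨n, hn⟩ := exact_kernel_stalk pY x a h1
    have hn' : stalkLin (kernel.ι pY) x n = a := hn
    refine ⟨n, injective_stalkLin (kernel.ι r) x ?_⟩
    show stalkLin (kernel.ι r) x (stalkLin e x n) = _
    rw [← stalkLin_comp, he, stalkLin_comp, hn', ha]
  have hKsupp : ∀ η ∈ genericPoints (X : Type u),
      (η ∈ CohB1.support K ↔ η ∈ CohB1.support G ∧ η ∉ CohB1.support GY) := by
    intro η hη
    constructor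
    · intro hK
      obtain ⟨z, hz⟩ := exists_ne_of_mem_support hK
      have hnY : η ∉ CohB1.support GY := fun hY => by
        obtain ⟨n, rfl⟩ := surjective_stalkLin e η z
        exact hz (by rw [stalk_kernel_eq_zero hM.2.2 pY hη hY n, map_zero])
      refine ⟨?_, hnY⟩
      have hs : η ∈ CohB1.support GU := fun h => hz (injective_stalkLin (kernel.ι r) η (Subsingleton.elim (h := h) _ _))
      exact ((hU η hη).mp hs).resolve_left hnY
    · rintro ⟨hG, hnY⟩ hK
      obtain ⟨a, ha⟩ := exists_ne_of_mem_support ((hU η hη).mpr (Or.inr hG))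
      haveI := subsingleton_of_not_mem_support hnY
      obtain ⟨z, hz⟩ := exact_kernel_stalk r η a (Subsingleton.elim _ _)
      haveI : Subsingleton (K.presheaf.stalk η) := hK
      exact ha (hz.symm.trans (by rw [Subsingleton.elim z 0]; exact map_zero _))
  -- the image of `GY` in `G`
  let A := Abelian.image (m.α ≫ π)
  let c := cokernel.π (m.α ≫ π)
  have hcQ : Coh.IsCoh (cokernel (m.α ≫ π)) := M1.isCoh_cokernel hcY.1 hcG _
  have hcA : Coh.IsCoh A := CurveCoh17.isCoh_kernel hcG hcQ.1 c
  have htA : TorSh.IsTorsionFree A := tf_of_mono (Abelian.image.ι _) htG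
  let qA : M ⟶ A := pY ≫ Abelian.factorThruImage (m.α ≫ π)
  have hαbij : ∀ η ∈ genericPoints (X : Type u), η ∈ CohB1.support GY → Function.Surjective (stalkLin m.α η) :=
    fun η hη hY b => by
      obtain ⟨a, ha⟩ := exact_stalk m.sh.exact η b (stalk_kernel_eq_zero hM.2.2 pY hη hY _)
      exact ⟨a, ha⟩
  have hAsupp : ∀ η ∈ genericPoints (X : Type u),
      (η ∈ CohB1.support A ↔ η ∈ CohB1.support GW) := by
    intro η hη
    rw [hW η hη]
    constructor
    · intro hA
      obtain ⟨z, hz⟩ := exists_ne_of_mem_support hA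
      refine ⟨fun h => ?_, fun h => hz (injective_stalkLin (Abelian.image.ι _) η (Subsingleton.elim (h := h) _ _))⟩
      obtain ⟨a, rfl⟩ := surjective_stalkLin (Abelian.factorThruImage (m.α ≫ π)) η z
      exact hz (by rw [Subsingleton.elim (h := h) a 0, map_zero])
    · rintro ⟨hY, hG⟩ hA
      obtain ⟨g, hg⟩ := exists_ne_of_mem_support hG
      obtain ⟨b, rfl⟩ := surjective_stalkLin π η g
      obtain ⟨a, rfl⟩ := hαbij η hη hY b
      refine hg ?_
      rw [← stalkLin_comp, ← Abelian.image.fac (m.α ≫ π), stalkLin_comp,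
        Subsingleton.elim (h := hA) (stalkLin (Abelian.factorThruImage (m.α ≫ π)) η a) 0, map_zero]
  obtain ⟨eA, -⟩ := nonempty_iso_of_quot hM.2.2 qA pW hcA htA hcW htW hAsupp
  -- the cokernel
  have hp : ∃ p : kernel pY ⟶ cokernel (m.α ≫ π), m.β ≫ p = π ≫ c :=
    ⟨m.sh.exact.desc (π ≫ c) (by
      show m.α ≫ π ≫ c = 0
      rw [← Category.assoc]; exact cokernel.condition _), m.sh.exact.g_desc _ _⟩
  obtain ⟨p, hp⟩ := hp
  haveI : Epi p := epi_of_epi_fac hp
  have hlift : ∀ η ∈ genericPoints (X : Type u), η ∈ CohB1.support G → η ∉ CohB1.support GY →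
      ∀ n, stalkLin p η n = 0 → n = 0 := by
    intro η hη hG hnY n hn
    haveI := subsingleton_of_not_mem_support hnY
    obtain ⟨b, rfl⟩ := surjective_stalkLin m.β η n
    rw [← stalkLin_comp, hp, stalkLin_comp] at hn
    obtain ⟨a, ha⟩ := exact_kernel_stalk c η (stalkLin π η b) hn
    obtain ⟨y, rfl⟩ := surjective_stalkLin (Abelian.factorThruImage (m.α ≫ π)) η a
    rw [Subsingleton.elim y 0, map_zero] at ha
    have hb : stalkLin π η b = 0 := ha.symm.trans (map_zero _)
    rw [injective_at_generic hM'1 π hη hG (hb.trans (map_zero _).symm), map_zero]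
  have hk : kernel.ι p ≫ e = 0 := by
    refine hom_eq_zero hcK htK _ fun η hη n => ?_
    by_cases hK : η ∈ CohB1.support K
    · obtain ⟨hG, hnY⟩ := (hKsupp η hη).mp hK
      rw [stalkLin_comp, hlift η hη hG hnY (stalkLin (kernel.ι p) η n)
        (by rw [← stalkLin_comp, kernel.condition, stalkLin_zero]), map_zero]
    · haveI := subsingleton_of_not_mem_support hK
      exact Subsingleton.elim _ _
  let w : cokernel (m.α ≫ π) ⟶ K := Abelian.epiDesc p e hk
  have hw : p ≫ w = e := Abelian.comp_epiDesc p e hk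
  haveI : Epi w := epi_of_epi_fac hw
  have hinj : ∀ η ∈ genericPoints (X : Type u), Function.Injective (stalkLin w η) := by
    intro η hη
    refine (injective_iff_map_eq_zero _).mpr fun z hz => ?_
    obtain ⟨g, rfl⟩ := surjective_stalkLin c η z
    obtain ⟨b, rfl⟩ := surjective_stalkLin π η g
    by_cases hG : η ∈ CohB1.support G
    · by_cases hY : η ∈ CohB1.support GY
      · obtain ⟨a, rfl⟩ := hαbij η hη hY b
        rw [← stalkLin_comp m.α π, ← stalkLin_comp (m.α ≫ π) c, cokernel.condition, stalkLin_zero]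
      · rw [← stalkLin_comp π c, ← hp, stalkLin_comp] at hz ⊢
        rw [← stalkLin_comp p w, hw] at hz
        have h1 : stalkLin (kernel.ι pY) η (stalkLin m.β η b) = 0 := by
          refine injective_at_generic hM.2.2 pU hη ((hU η hη).mpr (Or.inr hG)) (Eq.trans ?_ (map_zero _).symm)
          rw [← stalkLin_comp, ← he, stalkLin_comp, hz, map_zero]
        rw [injective_stalkLin (kernel.ι pY) η (h1.trans (map_zero _).symm), map_zero]
    · haveI := subsingleton_of_not_mem_support hG
      rw [Subsingleton.elim (stalkLin π η b) 0, map_zero]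
  have eG : Curv2.euler k X G = Curv2.euler k X A + Curv2.euler k X (cokernel (m.α ≫ π)) :=
    euler_kernel hX c hcG hcQ
  have eW : Curv2.euler k X A = Curv2.euler k X GW := euler_iso eA
  have eU : Curv2.euler k X GU = Curv2.euler k X K + Curv2.euler k X GY := euler_kernel hX r hcU hcY
  have hle := euler_le_of_epi hX w hcQ hcK hinj
  refine ⟨by omega, fun hm => ?_, K, m.β ≫ e, epi_comp _ _, hcK, htK, eU, hKsupp⟩
  haveI := hm
  haveI : Mono (e ≫ kernel.ι r) := by rw [he]; infer_instance
  haveI : Mono e := mono_of_mono e (kernel.ι r)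
  haveI : IsIso e := isIso_of_mono_of_epi e
  haveI : Mono (p ≫ w) := by rw [hw]; infer_instance
  haveI : Mono p := mono_of_mono p w
  haveI : IsIso p := isIso_of_mono_of_epi p
  have e1 : Curv2.euler k X (cokernel (m.α ≫ π)) = Curv2.euler k X K :=
    euler_iso ((asIso p).symm ≪≫ asIso e)
  omega

end Groth.Agent.TFOne27
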