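import Groth.Prelude.Def_Coh
import Mathlib.AlgebraicGeometry.Geometrically.Integral
import Mathlib.AlgebraicGeometry.FunctionField
import Mathlib.FieldTheory.IntermediateField.Adjoin.Basic
import Mathlib.RingTheory.Flat.Basic
import Mathlib.RingTheory.TensorProduct.Free
import Mathlib.RingTheory.Artinian.Module

/-!
# The constants of a geometrically integral scheme are algebraically closed in its function field
-/

set_option autoImplicit false
set_option linter.style.haveILetI false

universe u

open CategoryTheory CategoryTheory.Limits AlgebraicGeometry TopologicalSpace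
open scoped TensorProduct

namespace Groth.Agent.TFOne27

theorem noZeroDivisors_of_units {B B' : Type*} [CommRing B] [CommRing B'] [IsDomain B] (φ : B →+* B')
    (hφ : Function.Injective φ) (h : ∀ z, ∃ u : B', IsUnit u ∧ u * z ∈ Set.range φ) : NoZeroDivisors B' := by
  refine ⟨fun {x y} hxy => ?_⟩
  obtain ⟨u, hu, a, ha⟩ := h x
  obtain ⟨v, hv, b, hb⟩ := h y
  have h0 : φ (a * b) = φ 0 := by
    rw [map_mul, ha, hb, map_zero, mul_mul_mul_comm, hxy, mul_zero]
  rcases mul_eq_zero.mp (hφ h0) with h1 | h1
  · rw [h1, map_zero] at ha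
    exact Or.inl (hu.mul_right_eq_zero.mp ha.symm)
  · rw [h1, map_zero] at hb
    exact Or.inr (hv.mul_right_eq_zero.mp hb.symm)

set_option backward.isDefEq.respectTransparency false in
/-- If `A ⊗ L` is a domain for all finite extensions `L`, then `k` is algebraically closed in `Frac A`. -/
theorem mem_range_of_isIntegral {k A K : Type u} [Field k] [CommRing A] [IsDomain A] [Field K] [Algebra k A]
    [Algebra A K] [Algebra k K] [IsScalarTower k A K] [IsFractionRing A K]
    (h : ∀ (L : Type u) [Field L] [Algebra k L], FiniteDimensional k L → IsDomain (A ⊗[k] L))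
    (t : K) (ht : IsIntegral k t) : t ∈ Set.range (algebraMap k K) := by
  let L : IntermediateField k K := IntermediateField.adjoin k {t}
  haveI hfd : FiniteDimensional k L := IntermediateField.adjoin.finiteDimensional ht
  haveI : IsDomain (A ⊗[k] L) := h L hfd
  let φ : (A ⊗[k] L) →ₐ[k] (K ⊗[k] L) :=
    Algebra.TensorProduct.map (IsScalarTower.toAlgHom k A K) (AlgHom.id k L)
  have hφ : Function.Injective φ :=
    Module.Flat.rTensor_preserves_injective_linearMap (IsScalarTower.toAlgHom k A K).toLinearMap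
      (IsFractionRing.injective A K)
  have hclear : ∀ z : K ⊗[k] L, ∃ s : A, s ≠ 0 ∧ ∃ a : A ⊗[k] L, φ a = (algebraMap A K s ⊗ₜ (1 : L)) * z := by
    intro z
    induction z using TensorProduct.induction_on with
    | zero => exact ⟨1, one_ne_zero, 0, by simp⟩
    | tmul x l =>
      obtain ⟨a, s, hs, hx⟩ := IsFractionRing.div_surjective (A := A) x
      have hs0 : algebraMap A K s ≠ 0 := IsFractionRing.to_map_ne_zero_of_mem_nonZeroDivisors hs
      refine ⟨s, nonZeroDivisors.ne_zero hs, a ⊗ₜ l, ?_⟩
      rw [Algebra.TensorProduct.tmul_mul_tmul, one_mul]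
      show algebraMap A K a ⊗ₜ[k] l = _
      rw [← hx, mul_div_cancel₀ _ hs0]
    | add x y hx hy =>
      obtain ⟨s, hs, a, ha⟩ := hx
      obtain ⟨t, ht, b, hb⟩ := hy
      refine ⟨s * t, mul_ne_zero hs ht, (t ⊗ₜ 1) * a + (s ⊗ₜ 1) * b, ?_⟩
      rw [map_add, map_mul φ, map_mul φ, ha, hb, mul_add, map_mul (algebraMap A K)]
      congr 1 <;>
        · rw [← mul_assoc]
          show (algebraMap A K _ ⊗ₜ[k] (1 : L)) * (algebraMap A K _ ⊗ₜ[k] (1 : L)) * _ = _
          rw [Algebra.TensorProduct.tmul_mul_tmul, one_mul]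
          try (congr 2; ring)
  haveI hK : NoZeroDivisors (K ⊗[k] L) := noZeroDivisors_of_units (B := A ⊗[k] L) φ.toRingHom hφ fun (z : K ⊗[k] L) => by
    obtain ⟨s, hs, a, ha⟩ := hclear z
    refine ⟨algebraMap A K s ⊗ₜ[k] (1 : L), ?_, Set.mem_range.mpr ⟨a, ha⟩⟩
    exact ((IsFractionRing.to_map_ne_zero_of_mem_nonZeroDivisors (mem_nonZeroDivisors_of_ne_zero hs)).isUnit.map
      (Algebra.TensorProduct.includeLeftRingHom : K →+* K ⊗[k] L))
  let ψ : (L ⊗[k] L) →ₐ[k] (K ⊗[k] L) := Algebra.TensorProduct.map L.val (AlgHom.id k L)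
  have hψ : Function.Injective ψ :=
    Module.Flat.rTensor_preserves_injective_linearMap L.val.toLinearMap L.val.injective
  haveI hnt : Nontrivial (K ⊗[k] L) := inferInstance
  haveI hKd : IsDomain (K ⊗[k] L) :=
    @NoZeroDivisors.to_isDomain (K ⊗[k] L) Algebra.TensorProduct.instRing hnt hK
  haveI : IsDomain (L ⊗[k] L) := Function.Injective.isDomain ψ.toRingHom hψ
  haveI : IsArtinianRing (L ⊗[k] L) := isArtinian_of_tower k inferInstance
  have hfield : IsField (L ⊗[k] L) := @IsArtinianRing.isField_of_isDomain (L ⊗[k] L) Algebra.TensorProduct.instCommRing _ _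
  have hinj : Function.Injective (Algebra.TensorProduct.lmul' (S := L) k) := by
    refine (injective_iff_map_eq_zero _).mpr fun a ha => ?_
    by_contra h0
    obtain ⟨b, hb⟩ := hfield.mul_inv_cancel h0
    have h1 := congrArg (Algebra.TensorProduct.lmul' (S := L) k) hb
    rw [map_mul, ha, zero_mul, map_one] at h1
    exact zero_ne_one h1
  have hle := LinearMap.finrank_le_finrank_of_injective
    (f := (Algebra.TensorProduct.lmul' (S := L) k).toLinearMap) hinj
  rw [Module.finrank_tensorProduct] at hle
  have hpos : 0 < Module.finrank k L := Module.finrank_pos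
  have hone : Module.finrank k L = 1 := by nlinarith
  have hbot : L = ⊥ := IntermediateField.finrank_eq_one_iff.mp hone
  have htL : t ∈ L := IntermediateField.mem_adjoin_simple_self k t
  rw [hbot] at htL
  exact IntermediateField.mem_bot.mp htL

variable {k : Type u} [Field k] {C : Scheme.{u}} (q : C ⟶ Spec (CommRingCat.of k))

/-- A geometrically integral scheme over `k` has `k` algebraically closed in its function field. -/
theorem mem_range_functionField [IsIntegral C] [GeometricallyIntegral q] (t : C.functionField)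
    (ht : ((C.presheaf.germ ⊤ (genericPoint C) trivial).hom.comp (Coh.toGlobal q)).IsIntegralElem t) :
    ∃ c : k, C.presheaf.germ ⊤ (genericPoint C) trivial (Coh.toGlobal q c) = t := by
  obtain ⟨U, hU, hη, -⟩ := exists_isAffineOpen_mem_and_subset (X := C) (x := genericPoint C) (U := ⊤) trivial
  haveI : Nonempty U := ⟨⟨_, hη⟩⟩
  let φA : CommRingCat.of k ⟶ Γ(C, U) :=
    CommRingCat.ofHom ((C.presheaf.map (homOfLE (le_top : U ≤ ⊤)).op).hom.comp (Coh.toGlobal q))
  letI : Algebra k Γ(C, U) := φA.hom.toAlgebra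
  letI : Algebra k C.functionField := ((C.germToFunctionField U).hom.comp φA.hom).toAlgebra
  haveI : IsScalarTower k Γ(C, U) C.functionField := IsScalarTower.of_algebraMap_eq' rfl
  haveI := functionField_isFractionRing_of_isAffineOpen C U hU
  have hcomp : ∀ c : k, algebraMap k C.functionField c =
      C.presheaf.germ ⊤ (genericPoint C) trivial (Coh.toGlobal q c) := fun c =>
    C.presheaf.germ_res_apply (homOfLE (le_top : U ≤ ⊤)) _ _ _
  have hq : hU.fromSpec ≫ q = Spec.map φA := by
    have e : φA = (Scheme.ΓSpecIso (CommRingCat.of k)).inv ≫ q.appLE ⊤ U le_top := rfl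
    rw [e, Spec.map_comp, ← (isAffineOpen_top (Spec (CommRingCat.of k))).SpecMap_appLE_fromSpec q hU le_top, IsAffineOpen.fromSpec_top,
      Scheme.isoSpec_Spec_inv]
  have key : ∀ (L : Type u) [Field L] [Algebra k L], FiniteDimensional k L → IsDomain (Γ(C, U) ⊗[k] L) := by
    intro L _ _ _
    let g : Spec (CommRingCat.of L) ⟶ Spec (CommRingCat.of k) := Spec.map (CommRingCat.ofHom (algebraMap k L))
    haveI : IsIntegral (pullback q g) :=
      GeometricallyIntegral.geometrically_isIntegral g _ _ (.of_hasPullback q g)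
    let e : pullback (hU.fromSpec ≫ q) g ≅ Spec (CommRingCat.of (Γ(C, U) ⊗[k] L)) :=
      pullback.congrHom hq rfl ≪≫ pullbackSpecIso k Γ(C, U) L
    let e' : pullback hU.fromSpec (pullback.fst q g) ≅ pullback (hU.fromSpec ≫ q) g :=
      pullbackRightPullbackFstIso q g hU.fromSpec
    haveI : Nontrivial (Γ(C, U) ⊗[k] L) := inferInstance
    haveI : Nonempty (Spec (CommRingCat.of (Γ(C, U) ⊗[k] L))) :=
      inferInstanceAs (Nonempty (PrimeSpectrum (Γ(C, U) ⊗[k] L)))
    let m : Spec (CommRingCat.of (Γ(C, U) ⊗[k] L)) ⟶ pullback q g := e.inv ≫ e'.inv ≫ pullback.snd _ _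
    haveI : IsIntegral (Spec (CommRingCat.of (Γ(C, U) ⊗[k] L))) := isIntegral_of_isOpenImmersion m
    exact (affine_isIntegral_iff (CommRingCat.of (Γ(C, U) ⊗[k] L))).mp inferInstance
  have ht' : IsIntegral k t := by
    obtain ⟨p, hp, hpt⟩ := ht
    refine ⟨p, hp, ?_⟩
    convert hpt using 2
    exact RingHom.ext hcomp
  obtain ⟨c, hc⟩ := mem_range_of_isIntegral key t ht'
  exact ⟨c, (hcomp c).symm.trans hc⟩

end Groth.Agent.TFOne27
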