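import Groth.Agent.Lib.TFOne27.Basic
import Groth.Agent.Lib.RedSep.Basic

/-!
# Subcurves
-/

set_option autoImplicit false
set_option linter.style.haveILetI false

universe u

open CategoryTheory CategoryTheory.Limits AlgebraicGeometry TopologicalSpace

namespace Groth.Agent.TFOne27

open Groth.Agent.M1 Groth.Agent.CurveCoh17

variable {X : Scheme.{u}} (Y : Set X) (hY : IsClosed Y)

instance isReduced_sub : AlgebraicGeometry.IsReduced (VecSt.subsch X Y hY) :=
  RedSepLib.isReduced_vanishingIdeal_subscheme _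

instance isLocallyNoetherian_sub [IsLocallyNoetherian X] : IsLocallyNoetherian (VecSt.subsch X Y hY) :=
  LocallyOfFiniteType.isLocallyNoetherian (VecSt.subschι X Y hY)

theorem range_sub : Set.range (VecSt.subschι X Y hY) = Y := by
  rw [Scheme.IdealSheafData.range_subschemeι, Scheme.IdealSheafData.coe_support_vanishingIdeal]
  rfl

theorem mem_genericPoints_sub {z : VecSt.subsch X Y hY}
    (hz : VecSt.subschι X Y hY z ∈ genericPoints (X : Type u)) :
    z ∈ genericPoints ((VecSt.subsch X Y hY : Scheme.{u}) : Type u) := by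
  refine mem_genericPoints.mpr fun w hw => (VecSt.subschι X Y hY).isClosedEmbedding.injective ?_
  exact mem_genericPoints.mp hz _ (hw.map (VecSt.subschι X Y hY).continuous)

theorem map_mem_genericPoints (hYs : VecSt.IsSubcurve X Y)
    (z : VecSt.subsch X Y hY) (hz : z ∈ genericPoints ((VecSt.subsch X Y hY : Scheme.{u}) : Type u)) :
    VecSt.subschι X Y hY z ∈ genericPoints (X : Type u) := by
  obtain ⟨η, hη, hηY, hsp⟩ := exists_generic_specializes hYs
    ((range_sub Y hY).le ⟨z, rfl⟩ : VecSt.subschι X Y hY z ∈ Y)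
  obtain ⟨w, rfl⟩ : η ∈ Set.range (VecSt.subschι X Y hY) := by rw [range_sub]; exact hηY
  rwa [← mem_genericPoints.mp hz w ((VecSt.subschι X Y hY).isClosedEmbedding.isInducing.specializes_iff.mp hsp)]

/-- The direct image of a rank one sheaf on a subcurve is nonzero at the generic points in the subcurve. -/
theorem mem_support_sub {I : (VecSt.subsch X Y hY).Modules} (hI : TFOne.IsRkOne (VecSt.subsch X Y hY) I)
    {η : X} (hη : η ∈ genericPoints (X : Type u)) (hηY : η ∈ Y) :
    η ∈ CohB1.support ((Scheme.Modules.pushforward (VecSt.subschι X Y hY)).obj I) := by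
  obtain ⟨w, rfl⟩ : η ∈ Set.range (VecSt.subschι X Y hY) := by rw [range_sub]; exact hηY
  exact mem_support_push _ (mem_support_of_rkOne hI (mem_genericPoints_sub Y hY hη))

theorem subsingleton_sub {I : (VecSt.subsch X Y hY).Modules} {x : X} (hx : x ∉ Y) :
    Subsingleton (((Scheme.Modules.pushforward (VecSt.subschι X Y hY)).obj I).presheaf.stalk x) :=
  subsingleton_push _ (by rwa [range_sub])

theorem hom_eq_zero_sub [IsLocallyNoetherian X] (hYs : VecSt.IsSubcurve X Y) {F : X.Modules}
    {N : (VecSt.subsch X Y hY).Modules} (hN : TFOne.IsTF1 (VecSt.subsch X Y hY) N)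
    (f : F ⟶ (Scheme.Modules.pushforward (VecSt.subschι X Y hY)).obj N)
    (h : ∀ η ∈ genericPoints (X : Type u), ∀ a, stalkLin f η a = 0) : f = 0 :=
  hom_eq_zero_push _ (map_mem_genericPoints Y hY hYs) hN.1 hN.2.1 f h

/-- An endomorphism of the direct image of a simple sheaf is a scalar. -/
theorem exists_scalar_sub {k : Type u} [Field k] [X.Over (Spec (CommRingCat.of k))]
    {I : (VecSt.subsch X Y hY).Modules}
    (hI : TFOne.IsSimple (VecSt.subsch X Y hY) k (VecSt.subschι X Y hY ≫ (X ↘ Spec (CommRingCat.of k))) I)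
    (u : (Scheme.Modules.pushforward (VecSt.subschι X Y hY)).obj I ⟶
      (Scheme.Modules.pushforward (VecSt.subschι X Y hY)).obj I) :
    ∃ c : k, u = Formal.smulMod k _ c := by
  obtain ⟨c, hc⟩ := hI.2 ((ClImmProj14.pushFF (VecSt.subschι X Y hY)).preimage u)
  refine ⟨c, ?_⟩
  rw [← push_smulMod (VecSt.subschι X Y hY) I c, ← hc, Functor.FullyFaithful.map_preimage]

end Groth.Agent.TFOne27
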