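import Groth.Agent.Lib.TFOne27.Euler
import Groth.Agent.Lib.TFOne27.Sub
import Groth.Agent.Lib.CurveR1_10.Dim
import Groth.Agent.Lib.CurveAmple18.Basic
import Groth.Agent.Lib.FGA3.FormalTriv
import Groth.Agent.Lib.AmpleFin18.ProjFree
import Groth.Agent.Lib.CurveCoh17.AffPush
import Groth.Agent.Lib.ProperFormalH7.Bc

/-!
# The degree on subcurves is additive
-/

set_option autoImplicit false
set_option linter.style.haveILetI false

universe u

open CategoryTheory CategoryTheory.Limits AlgebraicGeometry TopologicalSpace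

namespace Groth.Agent.TFOne27

open Groth.Agent.M1 Groth.Agent.M2 Groth.Agent.CurveCoh17

variable {X : Scheme.{u}}

theorem isTF1_structureModule [AlgebraicGeometry.IsReduced X] [IsLocallyNoetherian X] :
    TFOne.IsTF1 X (Coh.structureModule X) := by
  refine ⟨CurveCoh17.isCoh_structureModule, fun x => ?_,
    fun x _ => (CurveCoh17.nonempty_stalk_equiv_structureModule x).map fun e =>
      e.trans (LinearEquiv.funUnique (Fin 1) (X.presheaf.stalk x) (X.presheaf.stalk x))⟩
  obtain ⟨e⟩ := CurveCoh17.nonempty_stalk_equiv_structureModule x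
  exact Function.Injective.moduleIsTorsionFree e e.injective (map_smul e)

/-- `i_* O` for the reduced subscheme on `T`. -/
noncomputable abbrev OT (T : Set X) (hT : IsClosed T) : X.Modules :=
  (Scheme.Modules.pushforward (VecSt.subschι X T hT)).obj (Coh.structureModule (VecSt.subsch X T hT))

theorem isCoh_OT [IsLocallyNoetherian X] (T : Set X) (hT : IsClosed T) : Coh.IsCoh (OT T hT) :=
  ProperFormalH7.isCoh_pushforward_of_isProper _ CurveCoh17.isCoh_structureModule

/-- Closed unions of irreducible components. -/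
def GenClosed (T : Set X) : Prop := ∀ x ∈ T, ∃ η ∈ genericPoints (X : Type u), η ∈ T ∧ η ⤳ x

theorem map_mem_genericPoints' (T : Set X) (hT : IsClosed T) (hTg : GenClosed T) (z : VecSt.subsch X T hT)
    (hz : z ∈ genericPoints ((VecSt.subsch X T hT : Scheme.{u}) : Type u)) :
    VecSt.subschι X T hT z ∈ genericPoints (X : Type u) := by
  obtain ⟨η, hη, hηT, hsp⟩ := hTg _ ((range_sub T hT).le ⟨z, rfl⟩)
  obtain ⟨w, rfl⟩ : η ∈ Set.range (VecSt.subschι X T hT) := by rw [range_sub]; exact hηT
  rwa [← mem_genericPoints.mp hz w ((VecSt.subschι X T hT).isClosedEmbedding.isInducing.specializes_iff.mp hsp)]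

theorem genDet_OT [IsLocallyNoetherian X] (T : Set X) (hT : IsClosed T) (hTg : GenClosed T) :
    GenDet (OT T hT) := fun _ f h =>
  hom_eq_zero_push _ (map_mem_genericPoints' T hT hTg) isTF1_structureModule.1 isTF1_structureModule.2.1 f h

theorem support_OT (T : Set X) (hT : IsClosed T) : CohB1.support (OT T hT) = T := by
  ext x
  refine ⟨fun h => ?_, fun h => ?_⟩
  · by_contra hx
    exact h (subsingleton_sub T hT hx)
  · obtain ⟨z, rfl⟩ : x ∈ Set.range (VecSt.subschι X T hT) := by rw [range_sub]; exact h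
    refine mem_support_push _ ?_
    obtain ⟨e⟩ := CurveCoh17.nonempty_stalk_equiv_structureModule z
    exact not_subsingleton_iff_nontrivial.mpr e.toEquiv.nontrivial

variable (k : Type u) [Field k] [X.Over (Spec (CommRingCat.of k))]

/-- `χ(G ⊗ E) - r χ(G)`. -/
noncomputable def delta (E : X.Modules) (r : ℕ) (G : X.Modules) : ℤ :=
  Curv2.euler k X (CohB1.tensorMod G E) - r * Curv2.euler k X G

theorem delta_OT [IsProper (X ↘ Spec (CommRingCat.of k))] (T : Set X) (hT : IsClosed T) {E : X.Modules} {r : ℕ}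
    (hE : FlatMod.IsFinLocFreeOfRank r E) :
    delta k E r (OT T hT) =
      letI : (VecSt.subsch X T hT).Over (Spec (CommRingCat.of k)) :=
        ⟨VecSt.subschι X T hT ≫ (X ↘ Spec (CommRingCat.of k))⟩
      Curv2.deg k (VecSt.subsch X T hT) ((Scheme.Modules.pullback (VecSt.subschι X T hT)).obj E) r := by
  letI : (VecSt.subsch X T hT).Over (Spec (CommRingCat.of k)) :=
    ⟨VecSt.subschι X T hT ≫ (X ↘ Spec (CommRingCat.of k))⟩
  let i := VecSt.subschι X T hT
  haveI := AmpleFin18.isIso_projHom_of_locFree i E (Coh.structureModule (VecSt.subsch X T hT))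
    (fun x => by obtain ⟨U, hU, i⟩ := hE x; exact ⟨U, r, hU, i⟩)
  let e : CohB1.tensorMod (OT T hT) E ≅
      (Scheme.Modules.pushforward i).obj ((Scheme.Modules.pullback i).obj E) :=
    M2.tensorComm (OT T hT) E ≪≫
      asIso (AmpleFin18.projHom i E (Coh.structureModule (VecSt.subsch X T hT))) ≪≫
      (Scheme.Modules.pushforward i).mapIso (M2.tensorRUnit _)
  haveI : ((Scheme.Modules.pullback i).obj E).IsQuasicoherent :=
    (M1.isCoh_pullback i (CurveCoh17.isCoh_of_ofRank hE)).1
  haveI : (Coh.structureModule (VecSt.subsch X T hT)).IsQuasicoherent := M1.isQCoh_structureModule _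
  have h1 : ∀ (M : (VecSt.subsch X T hT).Modules) [M.IsQuasicoherent],
      Curv2.euler k X ((Scheme.Modules.pushforward i).obj M) = Curv2.euler k (VecSt.subsch X T hT) M := fun M _ =>
    finsum_congr fun n => by rw [(nonempty_hequiv_push k i rfl M n).some.finrank_eq]
  rw [delta, euler_iso e, h1, show OT T hT = (Scheme.Modules.pushforward i).obj _ from rfl, h1]
  rfl

variable {k}

/-- The twisted Euler characteristic is additive on subcurves. -/
theorem delta_add [AlgebraicGeometry.IsReduced X] (hX : CurveLike k X) {E : X.Modules} {r : ℕ}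
    (hE : FlatMod.IsFinLocFreeOfRank r E) (Y Z U W : Set X) (hY : IsClosed Y) (hZ : IsClosed Z) (hU : IsClosed U)
    (hW : IsClosed W) (hYg : GenClosed Y) (hZg : GenClosed Z) (hWg : GenClosed W)
    (hU' : ∀ η ∈ genericPoints (X : Type u), (η ∈ U ↔ η ∈ Y ∨ η ∈ Z))
    (hW' : ∀ η ∈ genericPoints (X : Type u), (η ∈ W ↔ η ∈ Y ∧ η ∈ Z)) :
    delta k E r (OT Y hY) + delta k E r (OT Z hZ) = delta k E r (OT U hU) + delta k E r (OT W hW) := by
  haveI := hX.noetherian
  haveI := hX.separated
  haveI := FGA3.epi_unitToPush (VecSt.subschι X Y hY)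
  haveI := FGA3.epi_unitToPush (VecSt.subschι X Z hZ)
  haveI := FGA3.epi_unitToPush (VecSt.subschι X U hU)
  haveI := FGA3.epi_unitToPush (VecSt.subschι X W hW)
  obtain ⟨d, hd, ψ, S, hS₁, hS₂, -⟩ := exists_mv (k := k) hX isTF1_structureModule.2.2
    (ClSub.unitToPush (VecSt.subschι X Y hY)) (ClSub.unitToPush (VecSt.subschι X Z hZ))
    (ClSub.unitToPush (VecSt.subschι X U hU)) (ClSub.unitToPush (VecSt.subschι X W hW))
    (isCoh_OT Y hY) (isCoh_OT Z hZ) (isCoh_OT U hU) (isCoh_OT W hW) (genDet_OT Y hY hYg) (genDet_OT Z hZ hZg)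
    (genDet_OT W hW hWg) (fun η hη => by simpa only [support_OT] using hU' η hη)
    (fun η hη => by simpa only [support_OT] using hW' η hη)
  haveI := hd
  have hP := M1.isCoh_biprod (isCoh_OT Y hY) (isCoh_OT Z hZ)
  have hK : Coh.IsCoh (kernel d) := CurveCoh17.isCoh_kernel hP (isCoh_OT W hW).1 d
  have e := nonempty_stalk_equiv hE
  have hflat : ∀ x : X, Module.Flat (X.presheaf.stalk x) (E.presheaf.stalk x) := fun x =>
    Module.Flat.of_linearEquiv (e x).some
  have hEc := CurveCoh17.isCoh_of_ofRank hE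
  have aT : ∀ {G : X.Modules}, Coh.IsCoh G → Adm k (CohB1.tensorMod G E) := fun hG =>
    hX.adm (CurveCoh17.isCoh_tensor hG hEc)
  have h1 := euler_sub_tensor ψ (hX.adm (isCoh_OT U hU)) (hX.adm hK) hS₁ hS₂ E e (aT (isCoh_OT U hU))
  let T : ShortComplex X.Modules :=
    ShortComplex.mk (biprod.inl : OT Y hY ⟶ OT Y hY ⊞ OT Z hZ) biprod.snd biprod.inl_snd
  have hT : T.ShortExact := (ShortComplex.Splitting.ofHasBinaryBiproduct (OT Y hY) (OT Z hZ)).shortExact
  let T' : ShortComplex X.Modules := ShortComplex.mk (kernel.ι d) d (kernel.condition d)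
  have hT' : T'.ShortExact :=
    { exact := ShortComplex.exact_of_f_is_kernel _ (kernelIsKernel d), epi_g := hd }
  have a2 := euler_add (k := k) hT (hX.adm (isCoh_OT Y hY)) (hX.adm (isCoh_OT Z hZ))
  have b2 := euler_add (k := k) (shortExact_tensorR hT E hflat) (aT (isCoh_OT Y hY)) (aT (isCoh_OT Z hZ))
  have a3 := euler_add (k := k) hT' (hX.adm hK) (hX.adm (isCoh_OT W hW))
  have b3 := euler_add (k := k) (shortExact_tensorR hT' E hflat) (aT hK) (aT (isCoh_OT W hW))
  change Curv2.euler k X (CohB1.tensorMod (OT Y hY ⊞ OT Z hZ) E) =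
    Curv2.euler k X (CohB1.tensorMod (OT Y hY) E) + Curv2.euler k X (CohB1.tensorMod (OT Z hZ) E) at b2
  change Curv2.euler k X (CohB1.tensorMod (OT Y hY ⊞ OT Z hZ) E) =
    Curv2.euler k X (CohB1.tensorMod (kernel d) E) + Curv2.euler k X (CohB1.tensorMod (OT W hW) E) at b3
  change Curv2.euler k X (OT Y hY ⊞ OT Z hZ) = Curv2.euler k X (OT Y hY) + Curv2.euler k X (OT Z hZ) at a2
  change Curv2.euler k X (OT Y hY ⊞ OT Z hZ) = Curv2.euler k X (kernel d) + Curv2.euler k X (OT W hW) at a3
  simp only [delta]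
  linear_combination h1 - b2 + b3 + (r : ℤ) * (a2 - a3)

end Groth.Agent.TFOne27
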