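import Groth.Agent.Lib.TFOne27.Sub
import Groth.Agent.Lib.TFOne27.AlgClosed
import Groth.Agent.Lib.HomShH7.FullFaith
import Groth.Agent.Lib.NegTwist18.Main
import Groth.Agent.Lib.KS29.Descent
import Mathlib.Algebra.Polynomial.BigOperators

/-!
# Endomorphisms of torsion-free rank one sheaves on curves with geometrically integral components
-/

set_option autoImplicit false
set_option linter.style.haveILetI false

universe u

open CategoryTheory CategoryTheory.Limits AlgebraicGeometry TopologicalSpace

namespace Groth.Agent.TFOne27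

open Groth.Agent.M1 Groth.Agent.CurveCoh17

variable {k : Type u} [Field k] {X : Scheme.{u}} [X.Over (Spec (CommRingCat.of k))]

/-- Scalars as endomorphisms. -/
noncomputable def scalEnd (k : Type u) [Field k] [X.Over (Spec (CommRingCat.of k))] (M : X.Modules) :
    k →+* End M where
  toFun c := Formal.smulMod k M c
  map_one' := smulMod_one M
  map_mul' a b := (smulMod_comp M b a).symm
  map_zero' := VB17.smulMod_zero M
  map_add' a b := by
    have h := smulMod_sub (k := k) M (a + b) b
    rw [add_sub_cancel_right] at h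
    exact (eq_add_of_sub_eq h.symm)

theorem scalEnd_comm (M : X.Modules) (c : k) (f : End M) : scalEnd k M c * f = f * scalEnd k M c :=
  (FormalH7.smulMod_naturality (f : M ⟶ M) c).symm

theorem finite_end [IsProper (X ↘ Spec (CommRingCat.of k))] [IsLocallyNoetherian X] {M : X.Modules}
    (hM : Coh.IsCoh M) (φ : End M) : ∃ p : Polynomial k, p.Monic ∧ p.eval₂ (scalEnd k M) φ = 0 := by
  let q := X ↘ Spec (CommRingCat.of k)
  let H : X.Modules := M2.homMod M M
  have hH : Coh.IsCoh H := HomShH7.isCoh_homMod hM hM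
  letI : Module k Γ(H, ⊤) := Module.compHom _ (NegTwist18.base q)
  haveI : Module.Finite k Γ(H, ⊤) := NegTwist18.finite_sections q hH
  let L : End M →ₗ[k] Γ(H, ⊤) :=
    { toFun := fun e => HomShH7.secOfHom (M := M) (N := M) e ⊤
      map_add' := fun a b => HomShH7.hom_sec_ext _ _ fun V hV s => rfl
      map_smul' := fun c e => HomShH7.hom_sec_ext _ _ fun V hV s => by
        show (Formal.smulMod k M c ≫ (e : M ⟶ M)).app V s = _
        rw [← (FormalH7.smulMod_naturality (e : M ⟶ M) c).symm, Scheme.Modules.Hom.comp_app,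
          CategoryTheory.comp_apply, FormalH7.smulMod_app]
        rfl }
  have hL : Function.Injective L := by
    intro a b h
    refine Scheme.Modules.hom_ext _ _ fun U => ?_
    ext m
    exact congr(HomShH7.ev (M := M) (N := M) $h (le_top : U ≤ ⊤) m)
  haveI : Module.Finite k (End M) := Module.Finite.of_injective L hL
  obtain ⟨p, hp, hp0⟩ := IsIntegral.of_finite k φ
  refine ⟨p, hp, ?_⟩
  have e : algebraMap k (End M) = scalEnd k M := RingHom.ext fun c => by
    rw [Algebra.algebraMap_eq_smul_one]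
    exact KLin.smul_id M c
  rw [← e]
  exact hp0

/-- Evaluation of endomorphisms at a point where the module is free of rank one. -/
noncomputable def evalAt {M : X.Modules} {η : X} (e : M.presheaf.stalk η ≃ₗ[X.presheaf.stalk η] X.presheaf.stalk η) :
    End M →+* X.presheaf.stalk η where
  toFun f := e (stalkLin (f : M ⟶ M) η (e.symm 1))
  map_one' := by
    show e ((stalkAb η).map (𝟙 M) (e.symm 1)) = 1
    rw [CategoryTheory.Functor.map_id]
    exact e.apply_symm_apply 1
  map_mul' f g := by
    show e (stalkLin ((g : M ⟶ M) ≫ (f : M ⟶ M)) η (e.symm 1)) = _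
    rw [stalkLin_comp]
    have h : stalkLin (g : M ⟶ M) η (e.symm 1) = e (stalkLin (g : M ⟶ M) η (e.symm 1)) • e.symm 1 := by
      rw [← map_smul, smul_eq_mul, mul_one, e.symm_apply_apply]
    conv_lhs => rw [h, map_smul, map_smul, smul_eq_mul]
    exact mul_comm _ _
  map_zero' := by
    show e (stalkLin (0 : M ⟶ M) η _) = 0
    rw [stalkLin_zero, map_zero]
  map_add' f g := by
    show e ((stalkAb η).map ((f : M ⟶ M) + (g : M ⟶ M)) _) = _
    rw [Functor.map_add]
    exact map_add e _ _

theorem evalAt_spec {M : X.Modules} {η : X} (e : M.presheaf.stalk η ≃ₗ[X.presheaf.stalk η] X.presheaf.stalk η)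
    (f : M ⟶ M) (a : M.presheaf.stalk η) : stalkLin f η a = evalAt e f • a := by
  refine e.injective ?_
  have h : a = e a • e.symm 1 := by rw [← map_smul, smul_eq_mul, mul_one, e.symm_apply_apply]
  rw [map_smul, smul_eq_mul]
  conv_lhs => rw [h, map_smul, map_smul, smul_eq_mul]
  exact mul_comm _ _

theorem evalAt_scalEnd {M : X.Modules} {η : X}
    (e : M.presheaf.stalk η ≃ₗ[X.presheaf.stalk η] X.presheaf.stalk η) (c : k) :
    evalAt e (scalEnd k M c) = VB17.scal k η c := by
  show e (stalkLin (Formal.smulMod k M c) η (e.symm 1)) = _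
  rw [VB17.stalkLin_smulMod, map_smul, e.apply_symm_apply, smul_eq_mul, mul_one]

/-- An element of the local ring at a generic point which is algebraic over `k` is a constant. -/
theorem mem_range_scal [AlgebraicGeometry.IsReduced X]
    (hgi : ∀ (C : Set X) (hC : C ∈ irreducibleComponents (X : Type u)),
      GeometricallyIntegral (VecSt.subschι X C (isClosed_of_mem_irreducibleComponents C hC) ≫
        (X ↘ Spec (CommRingCat.of k))))
    {η : X} (hη : η ∈ genericPoints (X : Type u)) (t : X.presheaf.stalk η)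
    (ht : (VB17.scal k η).IsIntegralElem t) : ∃ c : k, VB17.scal k η c = t := by
  let C : Set X := closure {η}
  have hC : C ∈ irreducibleComponents (X : Type u) := hη
  let hCc := isClosed_of_mem_irreducibleComponents C hC
  let i := VecSt.subschι X C hCc
  haveI := hgi C hC
  haveI : IsIntegral (VecSt.subsch X C hCc) :=
    GeometricallyIntegral.isIntegral_of_subsingleton (i ≫ (X ↘ Spec (CommRingCat.of k)))
  have hCs : VecSt.IsSubcurve X C :=
    ⟨{C}, Set.singleton_subset_iff.mpr hC, Set.singleton_nonempty C, (Set.sUnion_singleton C).symm⟩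
  have hz : genericPoint (VecSt.subsch X C hCc) ∈
      genericPoints ((VecSt.subsch X C hCc : Scheme.{u}) : Type u) := by
    rw [genericPoints_eq_singleton]; rfl
  have hiz : i (genericPoint (VecSt.subsch X C hCc)) ∈ genericPoints (X : Type u) :=
    map_mem_genericPoints C hCc hCs _ hz
  have hizC : i (genericPoint (VecSt.subsch X C hCc)) ∈ C := (range_sub C hCc).le ⟨_, rfl⟩
  have he : i (genericPoint (VecSt.subsch X C hCc)) = η :=
    (isGenericPoint_of_mem hiz hC hizC).eq (isGenericPoint_closure (x := η))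
  let ψ := (i.stalkMap (genericPoint (VecSt.subsch X C hCc))).hom
  have hψ : ψ.comp (VB17.scal k _) =
      ((VecSt.subsch X C hCc).presheaf.germ ⊤ (genericPoint (VecSt.subsch X C hCc)) trivial).hom.comp
        (Coh.toGlobal (i ≫ (X ↘ Spec (CommRingCat.of k)))) := by
    ext c
    exact Scheme.Hom.germ_stalkMap_apply i ⊤ (genericPoint (VecSt.subsch X C hCc)) trivial _
  have key : ∀ t : X.presheaf.stalk (i (genericPoint (VecSt.subsch X C hCc))),
      (VB17.scal k _).IsIntegralElem t → ∃ c : k, VB17.scal k _ c = t := by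
    intro t ht
    obtain ⟨p, hp, hp0⟩ := ht
    obtain ⟨c, hc⟩ := mem_range_functionField (i ≫ (X ↘ Spec (CommRingCat.of k))) (ψ t)
      ⟨p, hp, by rw [← hψ, ← Polynomial.hom_eval₂, hp0, map_zero]⟩
    letI := (isField_stalk hiz).toField
    refine ⟨c, ψ.injective ?_⟩
    rw [← hc]
    exact RingHom.congr_fun hψ c
  revert key
  rw [he]
  exact fun key => key t ht

variable [AlgebraicGeometry.IsReduced X] [IsProper (X ↘ Spec (CommRingCat.of k))]
  (hgi : ∀ (C : Set X) (hC : C ∈ irreducibleComponents (X : Type u)),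
    GeometricallyIntegral (VecSt.subschι X C (isClosed_of_mem_irreducibleComponents C hC) ≫
      (X ↘ Spec (CommRingCat.of k))))
  {M : X.Modules} (hM : TFOne.IsTF1 X M)

include hgi hM in
theorem exists_value (φ : M ⟶ M) {η : X} (hη : η ∈ genericPoints (X : Type u)) :
    ∃ c : k, ∀ a, stalkLin φ η a = VB17.scal k η c • a := by
  haveI : IsLocallyNoetherian X := LocallyOfFiniteType.isLocallyNoetherian (X ↘ Spec (CommRingCat.of k))
  obtain ⟨e⟩ := hM.2.2 η hη
  obtain ⟨p, hp, hp0⟩ := finite_end (k := k) hM.1 φ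
  have hcomp : (evalAt e).comp (scalEnd k M) = VB17.scal k η := RingHom.ext (evalAt_scalEnd e)
  obtain ⟨c, hc⟩ := mem_range_scal hgi hη (evalAt e φ)
    ⟨p, hp, by rw [← hcomp, ← Polynomial.hom_eval₂, hp0, map_zero]⟩
  exact ⟨c, fun a => by rw [hc]; exact evalAt_spec e φ a⟩

include hgi hM in
/-- An endomorphism which is not a scalar gives an idempotent separating the components. -/
theorem exists_idempotent [Nonempty X] (φ : M ⟶ M) (hφ : ∀ c : k, φ ≠ Formal.smulMod k M c) :
    ∃ e : M ⟶ M, e ≫ e = e ∧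
      (∀ η ∈ genericPoints (X : Type u), (∀ a, stalkLin e η a = a) ∨ (∀ a, stalkLin e η a = 0)) ∧
      (∃ η ∈ genericPoints (X : Type u), ∀ a, stalkLin e η a = a) ∧
      (∃ η ∈ genericPoints (X : Type u), ∀ a, stalkLin e η a = 0) := by
  classical
  haveI : IsLocallyNoetherian X := LocallyOfFiniteType.isLocallyNoetherian (X ↘ Spec (CommRingCat.of k))
  haveI : CompactSpace X := QuasiCompact.compactSpace_of_compactSpace (X ↘ Spec (CommRingCat.of k))
  haveI : IsNoetherian X := {}
  have hfin : (genericPoints (X : Type u)).Finite :=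
    genericPoints.finite NoetherianSpace.finite_irreducibleComponents
  choose v hv using fun η : genericPoints (X : Type u) => exists_value hgi hM φ η.2
  obtain ⟨x⟩ := (inferInstance : Nonempty X)
  obtain ⟨θ, hθ, -⟩ := exists_generic_of_component (irreducibleComponent_mem_irreducibleComponents x)
  have hne : ∃ ρ, v ρ ≠ v ⟨θ, hθ⟩ := by
    by_contra! hall
    refine hφ (v ⟨θ, hθ⟩) ?_
    rw [← sub_eq_zero]
    refine hom_eq_zero hM.1 hM.2.1 _ fun η hη a => ?_
    rw [stalkLin_sub, VB17.stalkLin_smulMod, hv ⟨η, hη⟩, hall ⟨η, hη⟩]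
    exact sub_self _
  obtain ⟨ρ, hρ⟩ := hne
  let c₀ := v ⟨θ, hθ⟩
  haveI : Fintype (genericPoints (X : Type u)) := hfin.fintype
  let S : Finset k := (Finset.univ.image v).erase c₀
  let P : Polynomial k := ∏ s ∈ S, Polynomial.C (c₀ - s)⁻¹ * (Polynomial.X - Polynomial.C s)
  have hP1 : P.eval c₀ = 1 := by
    rw [Polynomial.eval_prod]
    refine Finset.prod_eq_one fun s hs => ?_
    rw [Polynomial.eval_mul, Polynomial.eval_sub, Polynomial.eval_C, Polynomial.eval_X, Polynomial.eval_C,
      inv_mul_cancel₀ (sub_ne_zero.mpr (Finset.ne_of_mem_erase hs).symm)]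
  have hP0 : ∀ η, v η ≠ c₀ → P.eval (v η) = 0 := fun η hη => by
    rw [Polynomial.eval_prod]
    refine Finset.prod_eq_zero (Finset.mem_erase.mpr ⟨hη, Finset.mem_image_of_mem v (Finset.mem_univ η)⟩) ?_
    rw [Polynomial.eval_mul, Polynomial.eval_sub, Polynomial.eval_C, Polynomial.eval_X, Polynomial.eval_C,
      sub_self, mul_zero]
  let e : End M := P.eval₂ (scalEnd k M) (φ : End M)
  have hval : ∀ (η : genericPoints (X : Type u)) a,
      stalkLin (e : M ⟶ M) η a = VB17.scal k (η : X) (P.eval (v η)) • a := by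
    intro η a
    obtain ⟨ε⟩ := hM.2.2 η η.2
    rw [evalAt_spec ε]
    congr 1
    have h1 : evalAt ε φ = VB17.scal k (η : X) (v η) := by
      show ε (stalkLin φ _ (ε.symm 1)) = _
      rw [hv η, map_smul, ε.apply_symm_apply, smul_eq_mul, mul_one]
    show evalAt ε (P.eval₂ (scalEnd k M) (φ : End M)) = _
    rw [Polynomial.hom_eval₂, h1, show (evalAt ε).comp (scalEnd k M) = VB17.scal k (η : X) from
      RingHom.ext (evalAt_scalEnd ε), Polynomial.eval₂_at_apply]
  have h01 : ∀ η ∈ genericPoints (X : Type u),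
      (∀ a, stalkLin (e : M ⟶ M) η a = a) ∨ (∀ a, stalkLin (e : M ⟶ M) η a = 0) := by
    intro η hη
    by_cases h : v ⟨η, hη⟩ = c₀
    · exact Or.inl fun a => by rw [hval ⟨η, hη⟩, h, hP1, map_one]; exact one_smul _ a
    · exact Or.inr fun a => by rw [hval ⟨η, hη⟩, hP0 _ h, map_zero]; exact zero_smul _ a
  refine ⟨e, ?_, h01, ⟨θ, hθ, fun a => ?_⟩, ⟨ρ.1, ρ.2, fun a => ?_⟩⟩
  · rw [← sub_eq_zero]
    refine hom_eq_zero hM.1 hM.2.1 _ fun η hη a => ?_
    rw [stalkLin_sub, stalkLin_comp]
    rcases h01 η hη with h | h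
    · rw [h, h]; exact sub_self _
    · rw [h, h]; exact sub_self _
  · rw [hval ⟨θ, hθ⟩, hP1, map_one]; exact one_smul _ a
  · rw [hval ρ, hP0 _ hρ, map_zero]; exact zero_smul _ a

end Groth.Agent.TFOne27
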