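import Groth.Agent.Lib.TFOne27.Basic
import Groth.Agent.Lib.ModM1.FibreProd
import Groth.Agent.Lib.CurveCoh17.Euler
import Groth.Agent.Lib.CurveCoh17.Degree
import Groth.Agent.Lib.CurveCoh17.Integral

/-!
# Euler characteristics of torsion-free quotients
-/

set_option autoImplicit false
set_option linter.style.haveILetI false

universe u

open CategoryTheory CategoryTheory.Limits AlgebraicGeometry TopologicalSpace

namespace Groth.Agent.TFOne27

open Groth.Agent.M1 Groth.Agent.M2 Groth.Agent.CurveCoh17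

variable {X : Scheme.{u}}

theorem isIso_stalk_id {F : X.Modules} (x : X) (a : F.presheaf.stalk x) : stalkLin (𝟙 F) x a = a :=
  ConcreteCategory.congr_hom ((stalkAb x).map_id F) a

theorem stalkLin_add {F G : X.Modules} (f g : F ⟶ G) (x : X) (a : F.presheaf.stalk x) :
    stalkLin (f + g) x a = stalkLin f x a + stalkLin g x a := by
  show (stalkAb x).map (f + g) a = _
  rw [Functor.map_add]
  rfl

/-- Morphisms into `H` are determined at the generic points. -/
def GenDet (H : X.Modules) : Prop :=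
  ∀ (F : X.Modules) (f : F ⟶ H), (∀ η ∈ genericPoints (X : Type u), ∀ a, stalkLin f η a = 0) → f = 0

theorem genDet_of_tf [AlgebraicGeometry.IsReduced X] [IsLocallyNoetherian X] {H : X.Modules} (hH : Coh.IsCoh H)
    (htH : TorSh.IsTorsionFree H) : GenDet H := fun _ f h => hom_eq_zero hH htH f h

/-- The torsion-free quotient on a bigger set maps to the one on a smaller set. -/
theorem exists_desc_det [AlgebraicGeometry.IsReduced X] {M G H : X.Modules}
    (hM : TFOne.IsRkOne X M) (p : M ⟶ G) [Epi p] (q : M ⟶ H) (hH : GenDet H)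
    (hsub : ∀ η ∈ genericPoints (X : Type u), η ∈ CohB1.support H → η ∈ CohB1.support G) :
    ∃ u : G ⟶ H, p ≫ u = q := by
  have hk : kernel.ι p ≫ q = 0 := by
    refine hH _ _ fun η hη a => ?_
    by_cases hs : η ∈ CohB1.support H
    · have h1 : stalkLin p η (stalkLin (kernel.ι p) η a) = 0 := by
        rw [← stalkLin_comp, kernel.condition, stalkLin_zero]
      have h2 := injective_at_generic hM p hη (hsub η hη hs) (h1.trans (map_zero _).symm)
      rw [stalkLin_comp, h2, map_zero]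
    · haveI := subsingleton_of_not_mem_support hs
      exact Subsingleton.elim _ _
  exact ⟨Abelian.epiDesc p q hk, Abelian.comp_epiDesc p q hk⟩

theorem exists_desc [AlgebraicGeometry.IsReduced X] [IsLocallyNoetherian X] {M G H : X.Modules}
    (hM : TFOne.IsRkOne X M) (p : M ⟶ G) [Epi p] (q : M ⟶ H) (hH : Coh.IsCoh H) (htH : TorSh.IsTorsionFree H)
    (hsub : ∀ η ∈ genericPoints (X : Type u), η ∈ CohB1.support H → η ∈ CohB1.support G) :
    ∃ u : G ⟶ H, p ≫ u = q :=
  exists_desc_det hM p q (genDet_of_tf hH htH) hsub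

variable {k : Type u} [Field k] [X.Over (Spec (CommRingCat.of k))]

/-- The Mayer–Vietoris comparison of quotients on `Y`, `Z`, `Y ∪ Z` and the common part. -/
theorem exists_mv [AlgebraicGeometry.IsReduced X] (hX : CurveLike k X) {M GY GZ GU GW : X.Modules}
    (hM : TFOne.IsRkOne X M) (pY : M ⟶ GY) (pZ : M ⟶ GZ) (pU : M ⟶ GU) (pW : M ⟶ GW)
    [Epi pY] [Epi pZ] [Epi pU] [Epi pW] (hcY : Coh.IsCoh GY) (hcZ : Coh.IsCoh GZ) (hcU : Coh.IsCoh GU)
    (hcW : Coh.IsCoh GW) (hdY : GenDet GY) (hdZ : GenDet GZ) (hdW : GenDet GW)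
    (hU : ∀ η ∈ genericPoints (X : Type u), (η ∈ CohB1.support GU ↔ η ∈ CohB1.support GY ∨ η ∈ CohB1.support GZ))
    (hW : ∀ η ∈ genericPoints (X : Type u), (η ∈ CohB1.support GW ↔ η ∈ CohB1.support GY ∧ η ∈ CohB1.support GZ)) :
    ∃ (d : GY ⊞ GZ ⟶ GW) (_ : Epi d) (ψ : GU ⟶ kernel d) (S : Finset X),
      SuppIn (kernel ψ) S ∧ SuppIn (cokernel ψ) S ∧
        ∀ η ∈ genericPoints (X : Type u), Function.Injective (stalkLin ψ η) := by
  classical
  haveI := hX.noetherian
  haveI := hX.separated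
  obtain ⟨a, ha⟩ := exists_desc_det hM pU pY hdY fun η hη h => (hU η hη).mpr (Or.inl h)
  obtain ⟨b, hb⟩ := exists_desc_det hM pU pZ hdZ fun η hη h => (hU η hη).mpr (Or.inr h)
  obtain ⟨u, hu⟩ := exists_desc_det hM pY pW hdW fun η hη h => ((hW η hη).mp h).1
  obtain ⟨v, hv⟩ := exists_desc_det hM pZ pW hdW fun η hη h => ((hW η hη).mp h).2
  let d : GY ⊞ GZ ⟶ GW := biprod.desc u (-v)
  haveI : Epi u := epi_of_epi_fac hu
  haveI : Epi d := by
    haveI : Epi (biprod.inl ≫ d) := by rw [biprod.inl_desc]; infer_instance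
    exact epi_of_epi biprod.inl d
  have hw : biprod.lift a b ≫ d = 0 := by
    rw [biprod.lift_desc, ← cancel_epi pU, Preadditive.comp_add, ← Category.assoc, ← Category.assoc, ha, hb,
      Preadditive.comp_neg, hu, hv, add_neg_cancel, comp_zero]
  let ψ : GU ⟶ kernel d := kernel.lift d (biprod.lift a b) hw
  have hψ : ψ ≫ kernel.ι d = biprod.lift a b := kernel.lift_ι _ _ _
  have hK : Coh.IsCoh (kernel d) := CurveCoh17.isCoh_kernel (M1.isCoh_biprod hcY hcZ) hcW.1 d
  have hinj : ∀ η ∈ genericPoints (X : Type u), Function.Injective (stalkLin ψ η) := by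
    intro η hη
    refine (injective_iff_map_eq_zero _).mpr fun x hx => ?_
    obtain ⟨m, rfl⟩ := surjective_stalkLin pU η x
    have h1 : stalkLin pY η m = 0 := by
      rw [← ha, show a = ψ ≫ kernel.ι d ≫ biprod.fst by rw [← Category.assoc, hψ, biprod.lift_fst],
        stalkLin_comp, stalkLin_comp, hx, map_zero]
    have h2 : stalkLin pZ η m = 0 := by
      rw [← hb, show b = ψ ≫ kernel.ι d ≫ biprod.snd by rw [← Category.assoc, hψ, biprod.lift_snd],
        stalkLin_comp, stalkLin_comp, hx, map_zero]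
    by_cases hs : η ∈ CohB1.support GU
    · rcases (hU η hη).mp hs with h | h
      · rw [injective_at_generic hM pY hη h (h1.trans (map_zero _).symm), map_zero]
      · rw [injective_at_generic hM pZ hη h (h2.trans (map_zero _).symm), map_zero]
    · haveI := subsingleton_of_not_mem_support hs
      exact Subsingleton.elim _ _
  have hsurj : ∀ η ∈ genericPoints (X : Type u), Function.Surjective (stalkLin ψ η) := by
    intro η hη z
    let z' := stalkLin (kernel.ι d) η z
    obtain ⟨p, hp⟩ := surjective_stalkLin pY η (stalkLin (biprod.fst : GY ⊞ GZ ⟶ GY) η z')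
    obtain ⟨q, hq⟩ := surjective_stalkLin pZ η (stalkLin (biprod.snd : GY ⊞ GZ ⟶ GZ) η z')
    have hd0 : stalkLin d η z' = 0 := by rw [← stalkLin_comp, kernel.condition, stalkLin_zero]
    have hsum : stalkLin d η z' = stalkLin pW η p - stalkLin pW η q := by
      have e : d = (biprod.fst : GY ⊞ GZ ⟶ GY) ≫ u - (biprod.snd : GY ⊞ GZ ⟶ GZ) ≫ v := by
        apply biprod.hom_ext' <;> simp [d]
      rw [e, stalkLin_sub, stalkLin_comp, stalkLin_comp, ← hp, ← hq, ← stalkLin_comp, ← stalkLin_comp, hu, hv]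
    suffices h : ∃ m, stalkLin pY η m = stalkLin pY η p ∧ stalkLin pZ η m = stalkLin pZ η q by
      obtain ⟨m, hmY, hmZ⟩ := h
      refine ⟨stalkLin pU η m, injective_stalkLin (kernel.ι d) η ?_⟩
      rw [← stalkLin_comp, hψ]
      have e : (biprod.lift a b : GU ⟶ GY ⊞ GZ) = a ≫ biprod.inl + b ≫ biprod.inr := by
        apply biprod.hom_ext <;> simp
      have e' : z' = stalkLin (biprod.inl : GY ⟶ GY ⊞ GZ) η (stalkLin pY η p) +
          stalkLin (biprod.inr : GZ ⟶ GY ⊞ GZ) η (stalkLin pZ η q) := by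
        rw [hp, hq, ← stalkLin_comp biprod.fst biprod.inl η z', ← stalkLin_comp biprod.snd biprod.inr η z',
          ← stalkLin_add, biprod.total]
        exact (isIso_stalk_id η z').symm
      show _ = z'
      rw [e, stalkLin_add, e', stalkLin_comp, stalkLin_comp, ← stalkLin_comp pU a, ← stalkLin_comp pU b, ha, hb,
        hmY, hmZ]
    by_cases hY : η ∈ CohB1.support GY
    · by_cases hZ : η ∈ CohB1.support GZ
      · have hpq : p = q := injective_at_generic hM pW hη ((hW η hη).mpr ⟨hY, hZ⟩)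
          (sub_eq_zero.mp (hsum.symm.trans hd0))
        exact ⟨p, rfl, by rw [hpq]⟩
      · haveI := subsingleton_of_not_mem_support hZ
        exact ⟨p, rfl, Subsingleton.elim _ _⟩
    · haveI := subsingleton_of_not_mem_support hY
      exact ⟨q, Subsingleton.elim _ _, rfl⟩
  obtain ⟨S₁, hS₁⟩ := exists_suppIn_of_maximal hX.dim (CurveCoh17.isCoh_kernel hcU hK.1 ψ) fun g hg =>
    eq_zero_stalk_kernel ψ g (hinj g (mem_genericPoints.mpr hg))
  obtain ⟨S₂, hS₂⟩ := exists_suppIn_of_maximal hX.dim (M1.isCoh_cokernel hcU.1 hK ψ) fun g hg =>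
    eq_zero_stalk_cokernel ψ g (hsurj g (mem_genericPoints.mpr hg))
  have hcl : ∀ x ∈ S₁ ∪ S₂, IsClosed ({x} : Set X) := fun x hx =>
    (Finset.mem_union.mp hx).elim (hS₁.closed x) (hS₂.closed x)
  exact ⟨d, inferInstance, ψ, S₁ ∪ S₂, hS₁.mono Finset.subset_union_left hcl,
    hS₂.mono Finset.subset_union_right hcl, hinj⟩

/-- The Euler characteristics of the torsion-free quotients on `Y`, `Z`, `Y ∪ Z` and their common part. -/
theorem euler_le [AlgebraicGeometry.IsReduced X] (hX : CurveLike k X) {M GY GZ GU GW : X.Modules}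
    (hM : TFOne.IsRkOne X M) (pY : M ⟶ GY) (pZ : M ⟶ GZ) (pU : M ⟶ GU) (pW : M ⟶ GW)
    [Epi pY] [Epi pZ] [Epi pU] [Epi pW] (hcY : Coh.IsCoh GY) (hcZ : Coh.IsCoh GZ) (hcU : Coh.IsCoh GU)
    (hcW : Coh.IsCoh GW) (htY : TorSh.IsTorsionFree GY) (htZ : TorSh.IsTorsionFree GZ)
    (htU : TorSh.IsTorsionFree GU) (htW : TorSh.IsTorsionFree GW)
    (hU : ∀ η ∈ genericPoints (X : Type u), (η ∈ CohB1.support GU ↔ η ∈ CohB1.support GY ∨ η ∈ CohB1.support GZ))
    (hW : ∀ η ∈ genericPoints (X : Type u), (η ∈ CohB1.support GW ↔ η ∈ CohB1.support GY ∧ η ∈ CohB1.support GZ)) :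
    Curv2.euler k X GU + Curv2.euler k X GW ≤ Curv2.euler k X GY + Curv2.euler k X GZ := by
  classical
  haveI := hX.noetherian
  haveI := hX.separated
  obtain ⟨d, hd, ψ, S, hS₁, hS₂, hinj⟩ := exists_mv (k := k) hX hM pY pZ pU pW hcY hcZ hcU hcW
    (genDet_of_tf hcY htY) (genDet_of_tf hcZ htZ) (genDet_of_tf hcW htW) hU hW
  haveI := hd
  have hK : Coh.IsCoh (kernel d) := CurveCoh17.isCoh_kernel (M1.isCoh_biprod hcY hcZ) hcW.1 d
  haveI : Mono ψ := by
    have h0 : kernel.ι ψ = 0 := hom_eq_zero hcU htU _ fun η hη x => by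
      rw [eq_zero_stalk_kernel ψ η (hinj η hη) x, map_zero]
    exact Preadditive.mono_of_kernel_zero h0
  obtain ⟨-, -, e1⟩ := euler_sub (k := k) ψ (hX.adm hcU) (hX.adm hK) hS₁ hS₂
  have h0 : Module.finrank k (Coh.HH X (kernel ψ) 0) = 0 := by
    have h : SuppIn (kernel ψ) (∅ : Finset X) := ⟨fun x hx => absurd hx (Finset.notMem_empty x),
      fun x _ a => eq_zero_stalk_kernel ψ x (injective_stalkLin ψ x) a⟩
    haveI : Subsingleton (Coh.HH X (kernel ψ) 0) :=
      ⟨fun p q => (hh0 _).injective (h.section_ext _ _ fun _ hx => absurd hx (Finset.notMem_empty _))⟩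
    exact Module.finrank_zero_of_subsingleton
  rw [h0] at e1
  let T : ShortComplex X.Modules := ShortComplex.mk (biprod.inl : GY ⟶ GY ⊞ GZ) biprod.snd biprod.inl_snd
  have hT : T.ShortExact := (ShortComplex.Splitting.ofHasBinaryBiproduct GY GZ).shortExact
  have e2 := euler_add (k := k) hT (hX.adm hcY) (hX.adm hcZ)
  have e3 := euler_add (k := k) (kerSC_shortExact d) (hX.adm hK)
    ((hX.adm hcW).of_iso (asIso (Abelian.image.ι d)).symm)
  have e4 : Curv2.euler k X (Abelian.image d) = Curv2.euler k X GW := euler_iso (asIso (Abelian.image.ι d))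
  have hnn : (0 : ℤ) ≤ Module.finrank k (Coh.HH X (cokernel ψ) 0) := Int.natCast_nonneg _
  simp only [T, kerSC] at e2 e3
  omega

end Groth.Agent.TFOne27
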