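import Groth.Agent.Lib.TFOne27.Cluster

/-!
# Torsion-free quotients as sheaves on the subcurve
-/

set_option autoImplicit false
set_option linter.style.haveILetI false

universe u

open CategoryTheory CategoryTheory.Limits AlgebraicGeometry TopologicalSpace

namespace Groth.Agent.TFOne27

open Groth.Agent.M1 Groth.Agent.M2 Groth.Agent.CurveCoh17

variable {X : Scheme.{u}}

/-- A torsion-free sheaf with support `Y` comes from the reduced subscheme on `Y`. -/
theorem isIso_unit_of_support [AlgebraicGeometry.IsReduced X] [IsLocallyNoetherian X] {G : X.Modules}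
    (hG : Coh.IsCoh G) (htG : TorSh.IsTorsionFree G) (Y : Set X) (hY : IsClosed Y) (hs : CohB1.support G = Y) :
    IsIso ((Scheme.Modules.pullbackPushforwardAdjunction (VecSt.subschι X Y hY)).unit.app G) := by
  let i := VecSt.subschι X Y hY
  haveI : Coh.IsQCoh G := hG.1
  refine M1.isIso_unit_of_ker_smul i G hG.1 fun U a ha s => GenericZero.eq_zero_of_maxPt htG _ fun z hz hmax => ?_
  rw [germ_smul]
  by_cases hzY : z ∈ Y
  · obtain ⟨w, rfl⟩ : z ∈ Set.range i := by rw [range_sub]; exact hzY
    have h0 : i.app U.1 a = 0 := by simpa [Scheme.Hom.ker_apply] using ha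
    letI := (isField_stalk (mem_genericPoints.mpr hmax)).toField
    have h1 : i.stalkMap w (X.presheaf.germ U.1 (i w) hz a) = 0 := by
      rw [Scheme.Hom.germ_stalkMap_apply, h0, map_zero]
    rw [(injective_iff_map_eq_zero (i.stalkMap w).hom).mp (i.stalkMap w).hom.injective _ h1]
    exact zero_smul _ _
  · haveI := subsingleton_of_not_mem_support (F := G) (x := z) (hs.symm ▸ hzY)
    exact Subsingleton.elim _ _

/-- The restriction to `Y` of a torsion-free sheaf of rank one along `Y` with support `Y`. -/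
theorem isTF1_pullback [AlgebraicGeometry.IsReduced X] [IsNoetherian X] {M G : X.Modules} (hM : TFOne.IsTF1 X M)
    (p : M ⟶ G) {Y : Set X} (hY : IsClosed Y) (hYg : GenClosed Y) (hG : TFOne.IsQuotOn X M Y G p) :
    TFOne.IsTF1 (VecSt.subsch X Y hY) ((Scheme.Modules.pullback (VecSt.subschι X Y hY)).obj G) := by
  obtain ⟨he, hc, ht, hs⟩ := hG
  haveI := he
  let i := VecSt.subschι X Y hY
  haveI : CompactSpace (VecSt.subsch X Y hY) := i.isClosedEmbedding.compactSpace
  haveI : IsNoetherian (VecSt.subsch X Y hY) := {}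
  let N := (Scheme.Modules.pullback i).obj G
  haveI := isIso_unit_of_support hc ht Y hY hs
  haveI : Coh.IsQCoh G := hc.1
  refine ⟨M1.isCoh_pullback i hc, isTorsionFree_of_secDet fun V s hV => ?_, fun z hz => ?_⟩
  · obtain ⟨U, hU, hUV⟩ := i.isClosedEmbedding.isInducing.isOpen_iff.mp V.2
    obtain rfl : i ⁻¹ᵁ (⟨U, hU⟩ : X.Opens) = V := Opens.ext hUV
    have hbij : Function.Bijective (((Scheme.Modules.pullbackPushforwardAdjunction i).unit.app G).app ⟨U, hU⟩) :=
      ConcreteCategory.bijective_of_isIso _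
    obtain ⟨t, rfl⟩ := hbij.2 s
    suffices h : t = 0 by rw [h]; exact map_zero _
    refine GenericZero.eq_zero_of_maxPt ht t fun η hη hmax => ?_
    by_cases hηY : η ∈ Y
    · obtain ⟨w, rfl⟩ : η ∈ Set.range i := by rw [range_sub]; exact hηY
      have h1 : stalkUnit i w G (G.presheaf.germ ⟨U, hU⟩ (i w) hη t) = 0 := by
        refine (stalkUnitHom_germ i w G hη t).trans ?_
        exact hV w (mem_genericPoints_sub Y hY (mem_genericPoints.mpr hmax)) hη
      rw [stalkUnit_eq_zero] at h1
      letI := (isField_stalk (mem_genericPoints.mpr hmax)).toField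
      rwa [(RingHom.injective_iff_ker_eq_bot _).mp (i.stalkMap w).hom.injective, Submodule.bot_smul,
        Submodule.mem_bot] at h1
    · haveI := subsingleton_of_not_mem_support (F := G) (x := η) (hs.symm ▸ hηY)
      exact Subsingleton.elim _ _
  · have hη : i z ∈ genericPoints (X : Type u) := map_mem_genericPoints' Y hY hYg z hz
    have hzY : i z ∈ Y := (range_sub Y hY).le ⟨z, rfl⟩
    obtain ⟨e⟩ := hM.2.2 _ hη
    let e' : G.presheaf.stalk (i z) ≃ₗ[X.presheaf.stalk (i z)] X.presheaf.stalk (i z) :=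
      (LinearEquiv.ofBijective (stalkLin p (i z)) ⟨injective_at_generic hM.2.2 p hη (hs.symm ▸ hzY),
        surjective_stalkLin p (i z)⟩).symm.trans e
    exact ⟨(pullStalkEquiv i z G).symm.trans
      ((TensorProduct.AlgebraTensorModule.congr (LinearEquiv.refl ((VecSt.subsch X Y hY).presheaf.stalk z)
        ((VecSt.subsch X Y hY).presheaf.stalk z : Type u)) e').trans (TensorProduct.AlgebraTensorModule.rid _ _ _))⟩

theorem support_push (Y : Set X) (hY : IsClosed Y) (N : (VecSt.subsch X Y hY).Modules) :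
    CohB1.support ((Scheme.Modules.pushforward (VecSt.subschι X Y hY)).obj N) =
      VecSt.subschι X Y hY '' CohB1.support N := by
  ext x
  constructor
  · intro h
    obtain ⟨w, rfl⟩ : x ∈ Set.range (VecSt.subschι X Y hY) := by
      rw [range_sub]; by_contra hx; exact h (subsingleton_sub Y hY hx)
    refine ⟨w, fun hw => h ?_, rfl⟩
    haveI : Subsingleton (N.presheaf.stalk w) := hw
    haveI := TopCat.Presheaf.stalkPushforward.stalkPushforward_iso_of_isInducing
      (C := AddCommGrpCat.{u}) (VecSt.subschι X Y hY).isClosedEmbedding.isInducing N.presheaf w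
    exact (ConcreteCategory.bijective_of_isIso
      (TopCat.Presheaf.stalkPushforward AddCommGrpCat.{u} (VecSt.subschι X Y hY).base N.presheaf w)).1.subsingleton
  · rintro ⟨w, hw, rfl⟩
    exact mem_support_push _ hw

theorem isTorsionFree_push [AlgebraicGeometry.IsReduced X] [IsNoetherian X] (Y : Set X) (hY : IsClosed Y)
    (hYg : GenClosed Y) {N : (VecSt.subsch X Y hY).Modules} (hN : Coh.IsCoh N) (htN : TorSh.IsTorsionFree N) :
    TorSh.IsTorsionFree ((Scheme.Modules.pushforward (VecSt.subschι X Y hY)).obj N) := by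
  haveI : Coh.IsQCoh N := hN.1
  refine isTorsionFree_of_secDet fun U s h => ?_
  refine GenericZero.eq_zero_of_maxPt (F := N) (U := (VecSt.subschι X Y hY) ⁻¹ᵁ U) htN s fun z hz hm => ?_
  exact germ_eq_zero_of_push _ hz _ (h _ (map_mem_genericPoints' Y hY hYg z (mem_genericPoints.mpr hm)) hz)

variable {k : Type u} [Field k] [X.Over (Spec (CommRingCat.of k))]

theorem euler_push [IsProper (X ↘ Spec (CommRingCat.of k))] (Y : Set X) (hY : IsClosed Y)
    (N : (VecSt.subsch X Y hY).Modules) (hN : Coh.IsQCoh N) :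
    letI : (VecSt.subsch X Y hY).Over (Spec (CommRingCat.of k)) :=
      ⟨VecSt.subschι X Y hY ≫ (X ↘ Spec (CommRingCat.of k))⟩
    Curv2.euler k X ((Scheme.Modules.pushforward (VecSt.subschι X Y hY)).obj N) =
      Curv2.euler k (VecSt.subsch X Y hY) N := by
  letI : (VecSt.subsch X Y hY).Over (Spec (CommRingCat.of k)) :=
    ⟨VecSt.subschι X Y hY ≫ (X ↘ Spec (CommRingCat.of k))⟩
  haveI : N.IsQuasicoherent := hN
  exact finsum_congr fun n => by
    rw [(nonempty_hequiv_push k (VecSt.subschι X Y hY) rfl N n).some.finrank_eq]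

theorem delta_push [IsProper (X ↘ Spec (CommRingCat.of k))] (Y : Set X) (hY : IsClosed Y) {E : X.Modules} {r : ℕ}
    (hE : FlatMod.IsFinLocFreeOfRank r E) (N : (VecSt.subsch X Y hY).Modules) (hN : Coh.IsCoh N) :
    letI : (VecSt.subsch X Y hY).Over (Spec (CommRingCat.of k)) :=
      ⟨VecSt.subschι X Y hY ≫ (X ↘ Spec (CommRingCat.of k))⟩
    delta k E r ((Scheme.Modules.pushforward (VecSt.subschι X Y hY)).obj N) =
      delta k ((Scheme.Modules.pullback (VecSt.subschι X Y hY)).obj E) r N := by
  letI : (VecSt.subsch X Y hY).Over (Spec (CommRingCat.of k)) :=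
    ⟨VecSt.subschι X Y hY ≫ (X ↘ Spec (CommRingCat.of k))⟩
  let i := VecSt.subschι X Y hY
  haveI : IsLocallyNoetherian X := LocallyOfFiniteType.isLocallyNoetherian (X ↘ Spec (CommRingCat.of k))
  haveI := AmpleFin18.isIso_projHom_of_locFree i E N
    (fun x => by obtain ⟨U, hU, h⟩ := hE x; exact ⟨U, r, hU, h⟩)
  have hEc : Coh.IsCoh ((Scheme.Modules.pullback i).obj E) := M1.isCoh_pullback i (CurveCoh17.isCoh_of_ofRank hE)
  have h1 : Curv2.euler k X (CohB1.tensorMod ((Scheme.Modules.pushforward i).obj N) E) =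
      Curv2.euler k (VecSt.subsch X Y hY) (CohB1.tensorMod N ((Scheme.Modules.pullback i).obj E)) := by
    rw [euler_iso (M2.tensorComm _ E ≪≫ asIso (AmpleFin18.projHom i E N) ≪≫
      (Scheme.Modules.pushforward i).mapIso (M2.tensorComm _ N))]
    exact euler_push Y hY _ (CurveCoh17.isCoh_tensor hN hEc).1
  simp only [delta]
  rw [h1, euler_push Y hY N hN.1]

end Groth.Agent.TFOne27
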